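import Groth.Agent.FlatCxBase.Core
import Mathlib.RingTheory.LocalRing.Module

/-!
Preservation of monomorphisms and epimorphisms by `T_p` for complexes of flat modules,
in terms of flatness of the cokernels of the differentials.
-/

universe u

open CategoryTheory CategoryTheory.Limits MonoidalCategory HomologicalComplex
open scoped TensorProduct

namespace Groth.FlatCxBase

variable {A : Type u} [CommRing A] {ι : Type} {c : ComplexShape ι}
variable (P : HomologicalComplex (ModuleCat.{u} A) c)

/-- `dd = 0`, after tensoring. -/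
lemma rTensor_d_d (M : Type u) [AddCommGroup M] [Module A M] (i j k : ι) (x : P.X i ⊗[A] M) :
    (P.d j k).hom.rTensor M ((P.d i j).hom.rTensor M x) = 0 := by
  rw [← LinearMap.rTensor_comp_apply, ← ModuleCat.hom_comp, P.d_comp_d, ModuleCat.hom_zero,
    LinearMap.rTensor_zero, LinearMap.zero_apply]

lemma lTensor_rTensor {X Y M N : Type u} [AddCommGroup X] [Module A X] [AddCommGroup Y] [Module A Y]
    [AddCommGroup M] [Module A M] [AddCommGroup N] [Module A N]
    (d : X →ₗ[A] Y) (g : M →ₗ[A] N) (x : X ⊗[A] M) :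
    g.lTensor Y (d.rTensor M x) = d.rTensor N (g.lTensor X x) := by
  rw [← LinearMap.comp_apply, ← LinearMap.comp_apply, LinearMap.lTensor_comp_rTensor,
    LinearMap.rTensor_comp_lTensor]

lemma preservesMono_iff (T : ModuleCat.{u} A ⥤ ModuleCat.{u} A) :
    T.PreservesMonomorphisms ↔ ∀ {M N : ModuleCat.{u} A} (g : M ⟶ N),
      Function.Injective g → Function.Injective (T.map g) := by
  refine ⟨fun h M N g hg => ?_, fun h => ⟨fun f hf => ?_⟩⟩
  · have := (ModuleCat.mono_iff_injective g).2 hg
    exact (ModuleCat.mono_iff_injective _).1 inferInstance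
  · exact (ModuleCat.mono_iff_injective _).2 (h f ((ModuleCat.mono_iff_injective f).1 hf))

lemma preservesEpi_iff (T : ModuleCat.{u} A ⥤ ModuleCat.{u} A) :
    T.PreservesEpimorphisms ↔ ∀ {M N : ModuleCat.{u} A} (g : M ⟶ N),
      Function.Surjective g → Function.Surjective (T.map g) := by
  refine ⟨fun h M N g hg => ?_, fun h => ⟨fun f hf => ?_⟩⟩
  · have := (ModuleCat.epi_iff_surjective g).2 hg
    exact (ModuleCat.epi_iff_surjective _).1 inferInstance
  · exact (ModuleCat.epi_iff_surjective _).2 (h f ((ModuleCat.epi_iff_surjective f).1 hf))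

/-- The quotient `P_j / im (d_{ij})`. -/
abbrev Coker (i j : ι) : Type u := P.X j ⧸ LinearMap.range (P.d i j).hom

/-- The projection. -/
abbrev cokerπ (i j : ι) : P.X j →ₗ[A] Coker P i j := (LinearMap.range (P.d i j).hom).mkQ

lemma exact_cokerπ (i j : ι) : Function.Exact (P.d i j).hom (cokerπ P i j) :=
  LinearMap.exact_map_mkQ_range _

lemma rTensor_cokerπ_eq_zero_iff (M : Type u) [AddCommGroup M] [Module A M] (i j : ι)
    (x : P.X j ⊗[A] M) :
    (cokerπ P i j).rTensor M x = 0 ↔ ∃ w, (P.d i j).hom.rTensor M w = x :=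
  rTensor_exact M (exact_cokerπ P i j) (Submodule.mkQ_surjective _) x

section

variable [∀ i, Module.Flat A (P.X i)] {h i j k : ι}

lemma preservesMono_iff_flat (hi : c.prev j = i) (hk : c.next j = k) :
    (CohIII.TFun P j).PreservesMonomorphisms ↔ Module.Flat A (Coker P i j) := by
  rw [preservesMono_iff]
  constructor
  · intro H
    refine Module.Flat.iff_lTensor_preserves_injective_linearMap.2 fun M N _ _ _ _ g hg => ?_
    rw [injective_iff_map_eq_zero]
    intro q hq
    obtain ⟨x, rfl⟩ := LinearMap.rTensor_surjective M (Submodule.mkQ_surjective _) q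
    rw [lTensor_rTensor] at hq
    obtain ⟨y, hy⟩ := (rTensor_cokerπ_eq_zero_iff P N i j _).1 hq
    refine (rTensor_cokerπ_eq_zero_iff P M i j x).2
      ((TFun_map_injective_iff P hi hk (ModuleCat.ofHom g)).1 (H (ModuleCat.ofHom g) hg) x ?_ ⟨y, hy⟩)
    apply Module.Flat.lTensor_preserves_injective_linearMap (M := P.X k) g hg
    rw [map_zero, lTensor_rTensor, ← hy, rTensor_d_d]
  · intro H M N g hg
    rw [TFun_map_injective_iff P hi hk]
    rintro x - ⟨y, hy⟩
    apply (rTensor_cokerπ_eq_zero_iff P M i j x).1
    apply Module.Flat.lTensor_preserves_injective_linearMap (M := Coker P i j) g.hom hg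
    rw [map_zero, lTensor_rTensor, ← hy]
    exact (rTensor_cokerπ_eq_zero_iff P N i j _).2 ⟨y, rfl⟩

lemma preservesEpi_iff_flat (hh : c.prev i = h) (hj : c.next i = j) :
    (CohIII.TFun P i).PreservesEpimorphisms ↔ Module.Flat A (Coker P i j) := by
  rw [preservesEpi_iff]
  constructor
  · intro H
    refine Module.Flat.iff_lTensor_preserves_injective_linearMap.2 fun K M _ _ _ _ g hg => ?_
    rw [injective_iff_map_eq_zero]
    intro q hq
    obtain ⟨z, rfl⟩ := LinearMap.rTensor_surjective K (Submodule.mkQ_surjective _) q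
    rw [lTensor_rTensor] at hq
    obtain ⟨x₀, hx₀⟩ := (rTensor_cokerπ_eq_zero_iff P M i j _).1 hq
    let π := (LinearMap.range g).mkQ
    have hπ : Function.Surjective π := Submodule.mkQ_surjective _
    have hex : Function.Exact g π := LinearMap.exact_map_mkQ_range g
    have hy : (P.d i j).hom.rTensor (M ⧸ LinearMap.range g) (π.lTensor (P.X i) x₀) = 0 := by
      rw [← lTensor_rTensor, hx₀]
      exact (lTensor_exact (P.X j) hex hπ).apply_apply_eq_zero z
    obtain ⟨x, w', hx, hxw⟩ :=
      (TFun_map_surjective_iff P hh hj (ModuleCat.ofHom π)).1 (H (ModuleCat.ofHom π) hπ) _ hy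
    obtain ⟨w, rfl⟩ := LinearMap.lTensor_surjective (P.X h) hπ w'
    have hu : π.lTensor (P.X i) (x₀ - x - (P.d h i).hom.rTensor M w) = 0 := by
      rw [map_sub, map_sub, lTensor_rTensor, sub_sub, sub_eq_zero]
      exact hxw.symm
    obtain ⟨u, hu⟩ := (lTensor_exact (P.X i) hex hπ _).1 hu
    refine (rTensor_cokerπ_eq_zero_iff P K i j z).2 ⟨u, ?_⟩
    apply Module.Flat.lTensor_preserves_injective_linearMap (M := P.X j) g hg
    rw [lTensor_rTensor, hu, map_sub, map_sub, hx, rTensor_d_d, sub_zero, sub_zero, hx₀]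
  · intro H M N g hg
    rw [TFun_map_surjective_iff P hh hj]
    intro y hy
    obtain ⟨x₀, rfl⟩ := LinearMap.lTensor_surjective (P.X i) hg y
    have hex : Function.Exact (LinearMap.ker g.hom).subtype g.hom := LinearMap.exact_subtype_ker_map g.hom
    rw [← lTensor_rTensor] at hy
    obtain ⟨z, hz⟩ := (lTensor_exact (P.X j) hex hg _).1 hy
    have hq : (cokerπ P i j).rTensor _ z = 0 := by
      apply Module.Flat.lTensor_preserves_injective_linearMap (M := Coker P i j)
        (LinearMap.ker g.hom).subtype Subtype.val_injective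
      rw [map_zero, lTensor_rTensor, hz]
      exact (rTensor_cokerπ_eq_zero_iff P M i j _).2 ⟨x₀, rfl⟩
    obtain ⟨w, hw⟩ := (rTensor_cokerπ_eq_zero_iff P _ i j z).1 hq
    refine ⟨x₀ - (LinearMap.ker g.hom).subtype.lTensor (P.X i) w, 0, ?_, ?_⟩
    · rw [map_sub, ← lTensor_rTensor, hw, hz, sub_self]
    · rw [map_zero, add_zero, map_sub, (lTensor_exact (P.X i) hex hg).apply_apply_eq_zero, sub_zero]

/-- For consecutive degrees, `T_i` preserves epimorphisms iff `T_j` preserves monomorphisms. -/
lemma preservesEpi_iff_preservesMono (hh : c.prev i = h) (hj : c.next i = j)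
    (hi : c.prev j = i) (hk : c.next j = k) :
    (CohIII.TFun P i).PreservesEpimorphisms ↔ (CohIII.TFun P j).PreservesMonomorphisms := by
  rw [preservesEpi_iff_flat P hh hj, preservesMono_iff_flat P hi hk]

end

/-- The map `P_j / im → P_k` induced by the differential. -/
noncomputable def dBar (i j k : ι) : Coker P i j →ₗ[A] P.X k :=
  (LinearMap.range (P.d i j).hom).liftQ (P.d j k).hom (by
    rintro _ ⟨w, rfl⟩
    exact ConcreteCategory.congr_hom (P.d_comp_d i j k) w)

lemma dBar_comp (i j k : ι) : (dBar P i j k).comp (cokerπ P i j) = (P.d j k).hom :=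
  Submodule.liftQ_mkQ _ _ _

section Residue

variable [IsLocalRing A] [∀ i, Module.Finite A (P.X i)] [∀ i, Module.Flat A (P.X i)] {h i j k : ι}

/-- If `T_j k = 0` then `T_j = 0`, for finite flat terms over a local ring. -/
lemma isZero_of_isZero_residueField (hi : c.prev j = i) (hk : c.next j = k)
    (hz : IsZero (CohIII.T P j (ModuleCat.of A (IsLocalRing.ResidueField A))))
    (M : ModuleCat.{u} A) : IsZero (CohIII.T P j M) := by
  have : Module.Free A (P.X k) := Module.free_of_flat_of_isLocalRing
  have hinj : Function.Injective ((dBar P i j k).lTensor (IsLocalRing.ResidueField A)) := by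
    rw [LinearMap.lTensor_inj_iff_rTensor_inj, injective_iff_map_eq_zero]
    intro q hq
    obtain ⟨x, rfl⟩ := LinearMap.rTensor_surjective (IsLocalRing.ResidueField A)
      (Submodule.mkQ_surjective (LinearMap.range (P.d i j).hom)) q
    rw [← LinearMap.rTensor_comp_apply, dBar_comp] at hq
    exact (rTensor_cokerπ_eq_zero_iff P _ i j x).2 ((isZero_T_iff P hi hk _).1 hz x hq)
  obtain ⟨r, hr⟩ := (IsLocalRing.split_injective_iff_lTensor_residueField_injective _).2 hinj
  rw [isZero_T_iff P hi hk]
  intro x hx
  apply (rTensor_cokerπ_eq_zero_iff P M i j x).1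
  have h1 : r.rTensor M ((dBar P i j k).rTensor M ((cokerπ P i j).rTensor M x)) = (cokerπ P i j).rTensor M x := by
    rw [← LinearMap.rTensor_comp_apply, hr, LinearMap.rTensor_id, LinearMap.id_apply]
  have h2 : (dBar P i j k).rTensor M ((cokerπ P i j).rTensor M x) = 0 := by
    rw [← LinearMap.rTensor_comp_apply, dBar_comp, hx]
  rw [← h1, h2, map_zero]

/-- If `T_i A → T_i k` is surjective then the cokernel of `d_{ij}` is free. -/
lemma free_coker_of_surjective (hh : c.prev i = h) (hj : c.next i = j)
    (hs : Function.Surjective ((CohIII.TFun P i).map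
      (ModuleCat.ofHom (Algebra.linearMap A (IsLocalRing.ResidueField A))))) :
    Module.Free A (Coker P i j) := by
  have : Module.Free A (P.X j) := Module.free_of_flat_of_isLocalRing
  refine Module.free_of_lTensor_residueField_injective (LinearMap.range (P.d i j).hom).subtype
    (cokerπ P i j) (Submodule.mkQ_surjective _) (LinearMap.exact_subtype_mkQ _) ?_
  rw [LinearMap.lTensor_inj_iff_rTensor_inj, injective_iff_map_eq_zero]
  intro b hb
  set dr := (P.d i j).hom.rangeRestrict
  obtain ⟨y, rfl⟩ := LinearMap.rTensor_surjective (IsLocalRing.ResidueField A)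
    (P.d i j).hom.surjective_rangeRestrict b
  rw [← LinearMap.rTensor_comp_apply] at hb
  obtain ⟨x, w, hx, hxw⟩ := (TFun_map_surjective_iff P hh hj _).1 hs y hb
  have hx0 : dr.rTensor A x = 0 := by
    apply Module.Flat.rTensor_preserves_injective_linearMap (M := A)
      (LinearMap.range (P.d i j).hom).subtype Subtype.val_injective
    rw [map_zero, ← LinearMap.rTensor_comp_apply]
    exact hx
  have hdd : dr.comp (P.d h i).hom = 0 := by
    ext w
    exact ConcreteCategory.congr_hom (P.d_comp_d h i j) w
  have h2 : dr.rTensor (IsLocalRing.ResidueField A) ((P.d h i).hom.rTensor _ w) = 0 := by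
    rw [← LinearMap.rTensor_comp_apply, hdd, LinearMap.rTensor_zero, LinearMap.zero_apply]
  rw [← hxw, map_add, ← lTensor_rTensor]
  show _ + dr.rTensor _ _ = 0
  rw [hx0, map_zero, h2, add_zero]

lemma preservesEpi_iff_surjective_residueField (hh : c.prev i = h) (hj : c.next i = j) :
    (CohIII.TFun P i).PreservesEpimorphisms ↔
      Function.Surjective ((CohIII.TFun P i).map
        (ModuleCat.ofHom (Algebra.linearMap A (IsLocalRing.ResidueField A)))) := by
  constructor
  · intro H
    exact (preservesEpi_iff _).1 H _ Ideal.Quotient.mk_surjective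
  · intro hs
    have := free_coker_of_surjective P hh hj hs
    exact (preservesEpi_iff_flat P hh hj).2 inferInstance

end Residue

end Groth.FlatCxBase
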