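import Groth.Agent.FlatCxBase.DRank
import Mathlib.RingTheory.Flat.Localization
import Mathlib.RingTheory.Localization.BaseChange
import Mathlib.RingTheory.Flat.EquationalCriterion
import Mathlib.RingTheory.LocalRing.ResidueField.Ideal

/-!
A flatness criterion for cokernels at all maximal ideals.
-/

universe u

open scoped TensorProduct

namespace Groth.FlatCxBase

variable {A : Type u} [CommRing A] {X Y : Type u} [AddCommGroup X] [Module A X] [AddCommGroup Y]
  [Module A Y]

lemma lTensor_injective_of_equiv {M N : Type u} [AddCommGroup M] [Module A M] [AddCommGroup N]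
    [Module A N] (e : M ≃ₗ[A] N) (f : X →ₗ[A] Y) (h : Function.Injective (f.lTensor M)) :
    Function.Injective (f.lTensor N) := by
  intro a b hab
  apply (e.symm.rTensor X).injective
  apply h
  have key : ∀ z, f.lTensor M (e.symm.rTensor X z) = e.symm.rTensor Y (f.lTensor N z) := fun z => by
    induction z using TensorProduct.induction_on with
    | zero => simp
    | add a b ha hb => simp only [map_add, ha, hb]
    | tmul m x => simp [LinearEquiv.rTensor_tmul]
  rw [key, key, hab]

/-- A cokernel is flat if the map is injective modulo every maximal ideal. -/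
lemma flat_coker_of_residue [Module.Finite A X] [Module.Finite A Y] [Module.Flat A Y] (f : X →ₗ[A] Y)
    (h : ∀ (m : Ideal A) [m.IsMaximal], Function.Injective (f.lTensor (A ⧸ m))) :
    Module.Flat A (Y ⧸ LinearMap.range f) := by
  refine Module.flat_of_isLocalized_maximal (R := A) (S := A) _
    (fun P [P.IsMaximal] => Localization.AtPrime P ⊗[A] (Y ⧸ LinearMap.range f))
    (fun P [P.IsMaximal] => TensorProduct.mk A (Localization.AtPrime P) _ 1) fun P hP => ?_
  let B := Localization.AtPrime P
  let k := IsLocalRing.ResidueField B
  have : Module.Flat A B := IsLocalization.flat B P.primeCompl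
  let f' := f.baseChange B
  have : Module.Free B (B ⊗[A] Y) := Module.free_of_flat_of_isLocalRing
  have hinj : Function.Injective (f'.lTensor k) := by
    let cX := TensorProduct.AlgebraTensorModule.cancelBaseChange A B k k X
    let cY := TensorProduct.AlgebraTensorModule.cancelBaseChange A B k k Y
    have hk : Function.Injective (f.lTensor k) :=
      lTensor_injective_of_equiv (AlgEquiv.ofBijective (IsScalarTower.toAlgHom A (A ⧸ P) k)
        (Ideal.bijective_algebraMap_quotient_residueField P)).toLinearEquiv f (h P)
    have key : ∀ z, cY (f'.lTensor k z) = f.lTensor k (cX z) := fun z => by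
      induction z using TensorProduct.induction_on with
      | zero => simp
      | add a b ha hb => simp only [map_add, ha, hb]
      | tmul a w =>
        induction w using TensorProduct.induction_on with
        | zero => simp
        | add u v hu hv => simp only [TensorProduct.tmul_add, map_add, hu, hv]
        | tmul b x => simp [cX, cY, f']
    intro a b hab
    exact cX.injective (hk (by rw [← key, ← key, hab]))
  obtain ⟨r, hr⟩ := (IsLocalRing.split_injective_iff_lTensor_residueField_injective f').2 hinj
  let π := (LinearMap.range f).mkQ.baseChange B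
  have hπ : Function.Surjective π := LinearMap.baseChange_surjective (R := A) B (Submodule.mkQ_surjective _)
  have hker : LinearMap.ker π ≤ LinearMap.ker (LinearMap.id - f'.comp r) := by
    intro y hy
    obtain ⟨w, hw⟩ := (lTensor_exact B (LinearMap.exact_map_mkQ_range f) (Submodule.mkQ_surjective _) y).1 hy
    have hw' : f' w = y := hw
    rw [LinearMap.mem_ker, ← hw', LinearMap.sub_apply, LinearMap.id_apply, LinearMap.comp_apply,
      show r (f' w) = w from LinearMap.congr_fun hr w, sub_self]
  let s : B ⊗[A] (Y ⧸ LinearMap.range f) →ₗ[B] B ⊗[A] Y :=
    ((LinearMap.ker π).liftQ _ hker).comp (π.quotKerEquivOfSurjective hπ).symm.toLinearMap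
  have hs : π.comp s = LinearMap.id := by
    refine (LinearMap.cancel_right hπ).1 (LinearMap.ext fun y => ?_)
    have : (π.quotKerEquivOfSurjective hπ).symm (π y) = Submodule.Quotient.mk y :=
      (LinearEquiv.symm_apply_eq _).2 rfl
    simp only [s, LinearMap.comp_apply, LinearEquiv.coe_coe, LinearMap.id_apply, this,
      Submodule.liftQ_apply, LinearMap.sub_apply, map_sub]
    rw [show π (f' (r y)) = 0 from
      (lTensor_exact B (LinearMap.exact_map_mkQ_range f) (Submodule.mkQ_surjective _)).apply_apply_eq_zero _,
      sub_zero]
  have : Module.Flat B (B ⊗[A] (Y ⧸ LinearMap.range f)) := Module.Flat.of_retract s π hs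
  exact Module.Flat.trans A B _

end Groth.FlatCxBase
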