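import Groth.Prelude.Def_ega3
import Mathlib.Algebra.Homology.ShortComplex.ModuleCat
import Mathlib.RingTheory.Flat.Basic
import Mathlib.RingTheory.Flat.Stability
import Mathlib.LinearAlgebra.TensorProduct.RightExactness

/-!
Element criteria for homology of complexes of modules, and the functor `T_p M = H_p (P ⊗ M)`
in linear-map terms (`LinearMap.rTensor`, `LinearMap.lTensor`).
-/

universe u

open CategoryTheory CategoryTheory.Limits MonoidalCategory HomologicalComplex
open scoped TensorProduct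

namespace Groth.FlatCxBase

section Homology

variable {R : Type u} [Ring R] {ι : Type} {c : ComplexShape ι}
variable {K L : HomologicalComplex (ModuleCat.{u} R) c}

/-- The class of a cycle. -/
noncomputable def cls (K : HomologicalComplex (ModuleCat.{u} R) c) (j : ι) :
    LinearMap.ker (K.d j (c.next j)).hom →ₗ[R] K.homology j :=
  ((K.sc j).homologyπ.hom).comp ((K.sc j).moduleCatCyclesIso.inv.hom)

lemma iCycles_inv (S : ShortComplex (ModuleCat.{u} R)) (x : LinearMap.ker S.g.hom) :
    S.iCycles (S.moduleCatCyclesIso.inv x) = x.1 :=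
  ConcreteCategory.congr_hom S.moduleCatCyclesIso_inv_iCycles x

lemma cls_surjective (j : ι) : Function.Surjective (cls K j) :=
  ((ModuleCat.epi_iff_surjective (K.sc j).homologyπ).1 inferInstance).comp
    ((ModuleCat.epi_iff_surjective (K.sc j).moduleCatCyclesIso.inv).1 inferInstance)

lemma homologyπ_inv_eq_zero_iff (S : ShortComplex (ModuleCat.{u} R)) (x : LinearMap.ker S.g.hom) :
    S.homologyπ (S.moduleCatCyclesIso.inv x) = 0 ↔ ∃ w, S.f w = x.1 := by
  have h1 : S.homologyπ (S.moduleCatCyclesIso.inv x) =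
      S.moduleCatHomologyIso.inv (S.moduleCatLeftHomologyData.π x) :=
    ConcreteCategory.congr_hom S.moduleCatCyclesIso_inv_π x
  rw [h1]
  refine (map_eq_zero_iff S.moduleCatHomologyIso.inv.hom
    ((ModuleCat.mono_iff_injective S.moduleCatHomologyIso.inv).1 inferInstance)).trans ?_
  refine (Submodule.Quotient.mk_eq_zero (LinearMap.range S.moduleCatToCycles)).trans ?_
  exact ⟨fun ⟨w, hw⟩ => ⟨w, congrArg Subtype.val hw⟩, fun ⟨w, hw⟩ => ⟨w, Subtype.ext hw⟩⟩

lemma cls_eq_zero_iff {i : ι} (j : ι) (hi : c.prev j = i) (x : LinearMap.ker (K.d j (c.next j)).hom) :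
    cls K j x = 0 ↔ ∃ w, K.d i j w = x.1 := by
  subst hi
  exact homologyπ_inv_eq_zero_iff (K.sc j) x

lemma map_mem_ker (φ : K ⟶ L) (j : ι) (x : LinearMap.ker (K.d j (c.next j)).hom) :
    φ.f j x.1 ∈ LinearMap.ker (L.d j (c.next j)).hom := by
  have h := ConcreteCategory.congr_hom (φ.comm j (c.next j)) x.1
  simp only [ConcreteCategory.comp_apply] at h
  exact LinearMap.mem_ker.2 (h.trans (by
    rw [show K.d j (c.next j) x.1 = 0 from x.2, map_zero]))

lemma homologyMap_cls (φ : K ⟶ L) (j : ι) (x : LinearMap.ker (K.d j (c.next j)).hom) :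
    homologyMap φ j (cls K j x) = cls L j ⟨φ.f j x.1, map_mem_ker φ j x⟩ := by
  change ShortComplex.homologyMap ((shortComplexFunctor _ c j).map φ)
    ((K.sc j).homologyπ ((K.sc j).moduleCatCyclesIso.inv x)) =
      (L.sc j).homologyπ ((L.sc j).moduleCatCyclesIso.inv _)
  refine (ConcreteCategory.congr_hom
    (ShortComplex.homologyπ_naturality ((shortComplexFunctor _ c j).map φ)) _).trans ?_
  refine congrArg ((L.sc j).homologyπ) ?_
  apply (ModuleCat.mono_iff_injective (L.sc j).iCycles).1 inferInstance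
  refine (ConcreteCategory.congr_hom
    (ShortComplex.cyclesMap_i ((shortComplexFunctor _ c j).map φ)) _).trans ?_
  refine (congrArg _ (iCycles_inv (K.sc j) x)).trans ?_
  exact (iCycles_inv (L.sc j) ⟨φ.f j x.1, map_mem_ker φ j x⟩).symm

lemma homologyMap_injective_iff (φ : K ⟶ L) {i j k : ι} (hi : c.prev j = i) (hk : c.next j = k) :
    Function.Injective (homologyMap φ j) ↔
      ∀ x, K.d j k x = 0 → (∃ y, L.d i j y = φ.f j x) → ∃ w, K.d i j w = x := by
  subst hk
  rw [injective_iff_map_eq_zero]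
  constructor
  · intro h x hx hy
    refine (cls_eq_zero_iff j hi ⟨x, hx⟩).1 (h _ ?_)
    rw [homologyMap_cls]
    exact (cls_eq_zero_iff j hi _).2 hy
  · intro h a ha
    obtain ⟨x, rfl⟩ := cls_surjective j a
    rw [homologyMap_cls] at ha
    exact (cls_eq_zero_iff j hi x).2 (h x.1 x.2 ((cls_eq_zero_iff j hi _).1 ha))

lemma homologyMap_surjective_iff (φ : K ⟶ L) {i j k : ι} (hi : c.prev j = i) (hk : c.next j = k) :
    Function.Surjective (homologyMap φ j) ↔
      ∀ y, L.d j k y = 0 → ∃ x w, K.d j k x = 0 ∧ φ.f j x + L.d i j w = y := by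
  subst hk
  constructor
  · intro h y hy
    obtain ⟨a, ha⟩ := h (cls L j ⟨y, hy⟩)
    obtain ⟨x, rfl⟩ := cls_surjective j a
    rw [homologyMap_cls, eq_comm, ← sub_eq_zero, ← map_sub] at ha
    obtain ⟨w, hw⟩ := (cls_eq_zero_iff j hi _).1 ha
    exact ⟨x.1, w, x.2, by rw [hw]; exact add_sub_cancel _ _⟩
  · intro h b
    obtain ⟨y, rfl⟩ := cls_surjective j b
    obtain ⟨x, w, hx, hxw⟩ := h y.1 y.2
    refine ⟨cls K j ⟨x, hx⟩, ?_⟩
    rw [homologyMap_cls, eq_comm, ← sub_eq_zero, ← map_sub]
    exact (cls_eq_zero_iff j hi _).2 ⟨w, eq_sub_of_add_eq' hxw⟩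

lemma isZero_homology_iff {i j k : ι} (hi : c.prev j = i) (hk : c.next j = k) :
    IsZero (K.homology j) ↔ ∀ x, K.d j k x = 0 → ∃ w, K.d i j w = x := by
  subst hk
  rw [ModuleCat.isZero_iff_subsingleton]
  constructor
  · intro h x hx
    exact (cls_eq_zero_iff j hi ⟨x, hx⟩).1 (Subsingleton.elim _ _)
  · intro h
    refine ⟨fun a b => ?_⟩
    obtain ⟨x, rfl⟩ := cls_surjective j a
    obtain ⟨y, rfl⟩ := cls_surjective j b
    rw [← sub_eq_zero, ← map_sub]
    exact (cls_eq_zero_iff j hi _).2 (h _ (x - y).2)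

/-- Homology as kernel modulo image. -/
noncomputable def homologyEquivQuot (K : HomologicalComplex (ModuleCat.{u} R) c)
    {i j k : ι} (hi : c.prev j = i) (hk : c.next j = k) :
    (LinearMap.ker (K.d j k).hom ⧸
      (LinearMap.range (K.d i j).hom).comap (LinearMap.ker (K.d j k).hom).subtype) ≃ₗ[R] K.homology j :=
  hk ▸ ((Submodule.quotEquivOfEq _ _ (by
      subst hi; ext x
      simp only [LinearMap.mem_ker, Submodule.mem_comap, LinearMap.mem_range, Submodule.subtype_apply]
      exact (cls_eq_zero_iff (K := K) j rfl x).symm)).trans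
    ((cls K j).quotKerEquivOfSurjective (cls_surjective j)))

/-- Opcycles as a quotient. -/
noncomputable def opcyclesEquivQuot (K : HomologicalComplex (ModuleCat.{u} R) c)
    {i j : ι} (hi : c.prev j = i) :
    (K.X j ⧸ LinearMap.range (K.d i j).hom) ≃ₗ[R] K.opcycles j :=
  hi ▸ ((K.sc j).moduleCatOpcyclesIso).toLinearEquiv.symm

end Homology

section Chain

lemma chain_prev (p : ℤ) : (ComplexShape.down ℤ).prev p = p + 1 :=
  (ComplexShape.down ℤ).prev_eq' rfl

lemma chain_next (p : ℤ) : (ComplexShape.down ℤ).next p = p - 1 :=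
  (ComplexShape.down ℤ).next_eq' (by simp)

lemma cochain_prev (p : ℤ) : (ComplexShape.up ℤ).prev p = p - 1 :=
  (ComplexShape.up ℤ).prev_eq' (by simp)

lemma cochain_next (p : ℤ) : (ComplexShape.up ℤ).next p = p + 1 :=
  (ComplexShape.up ℤ).next_eq' rfl

end Chain

section Tensor

variable {A : Type u} [CommRing A] {ι : Type} {c : ComplexShape ι}
variable (P : HomologicalComplex (ModuleCat.{u} A) c)

lemma tensorObj_d (M : ModuleCat.{u} A) (i j : ι) :
    ((CohIII.tensorObj P M).d i j).hom = (P.d i j).hom.rTensor M := rfl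

lemma tensorMap_f {M N : ModuleCat.{u} A} (g : M ⟶ N) (i : ι) :
    ((CohIII.tensorMap P g).f i).hom = g.hom.lTensor (P.X i) := rfl

variable {i j k : ι} (hi : c.prev j = i) (hk : c.next j = k)
include hi hk

lemma TFun_map_injective_iff {M N : ModuleCat.{u} A} (g : M ⟶ N) :
    Function.Injective ((CohIII.TFun P j).map g) ↔
      ∀ x : P.X j ⊗[A] M, (P.d j k).hom.rTensor M x = 0 →
        (∃ y, (P.d i j).hom.rTensor N y = g.hom.lTensor (P.X j) x) →
          ∃ w, (P.d i j).hom.rTensor M w = x :=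
  homologyMap_injective_iff (CohIII.tensorMap P g) hi hk

lemma TFun_map_surjective_iff {M N : ModuleCat.{u} A} (g : M ⟶ N) :
    Function.Surjective ((CohIII.TFun P j).map g) ↔
      ∀ y : P.X j ⊗[A] N, (P.d j k).hom.rTensor N y = 0 →
        ∃ x w, (P.d j k).hom.rTensor M x = 0 ∧
          g.hom.lTensor (P.X j) x + (P.d i j).hom.rTensor N w = y :=
  homologyMap_surjective_iff (CohIII.tensorMap P g) hi hk

lemma isZero_T_iff (M : ModuleCat.{u} A) :
    IsZero (CohIII.T P j M) ↔
      ∀ x : P.X j ⊗[A] M, (P.d j k).hom.rTensor M x = 0 → ∃ w, (P.d i j).hom.rTensor M w = x :=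
  isZero_homology_iff hi hk

end Tensor

section Classes

variable {A : Type u} [CommRing A] {ι : Type} {c : ComplexShape ι}
variable (P : HomologicalComplex (ModuleCat.{u} A) c) {j k : ι} (hk : c.next j = k) (M : ModuleCat.{u} A)

/-- The class in `T_j M` of a cycle of `P ⊗ M`. -/
noncomputable def clsT :
    LinearMap.ker ((P.d j k).hom.rTensor M) →ₗ[A] (CohIII.TFun P j).obj M :=
  hk ▸ cls (CohIII.tensorObj P M) j

lemma clsT_surjective : Function.Surjective (clsT P hk M) := by
  subst hk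
  exact cls_surjective (K := CohIII.tensorObj P M) j

lemma clsT_eq_zero_iff {i : ι} (hi : c.prev j = i) (x : LinearMap.ker ((P.d j k).hom.rTensor M)) :
    clsT P hk M x = 0 ↔ ∃ w, (P.d i j).hom.rTensor M w = x.1 := by
  subst hk
  exact cls_eq_zero_iff (K := CohIII.tensorObj P M) j hi x

lemma lTensor_mem_ker {N : ModuleCat.{u} A} (g : M ⟶ N) (x : LinearMap.ker ((P.d j k).hom.rTensor M)) :
    g.hom.lTensor (P.X j) x.1 ∈ LinearMap.ker ((P.d j k).hom.rTensor N) := by
  rw [LinearMap.mem_ker, ← LinearMap.comp_apply, LinearMap.rTensor_comp_lTensor,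
    ← LinearMap.lTensor_comp_rTensor, LinearMap.comp_apply, LinearMap.mem_ker.1 x.2, map_zero]

lemma TFun_map_clsT {N : ModuleCat.{u} A} (g : M ⟶ N) (x : LinearMap.ker ((P.d j k).hom.rTensor M)) :
    (CohIII.TFun P j).map g (clsT P hk M x) =
      clsT P hk N ⟨g.hom.lTensor (P.X j) x.1, lTensor_mem_ker P M g x⟩ := by
  subst hk
  exact homologyMap_cls (CohIII.tensorMap P g) j x

end Classes

end Groth.FlatCxBase
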