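import Groth.Agent.FlatCxBase.Chain
import Mathlib.RingTheory.Flat.FaithfullyFlat.Basic

/-!
Base change `bcCx` of complexes in terms of `B ⊗[A] -`.
-/

universe u

open CategoryTheory CategoryTheory.Limits MonoidalCategory HomologicalComplex
open scoped TensorProduct ChangeOfRings

namespace Groth.FlatCxBase

variable {A : Type u} [CommRing A] (B : Type u) [CommRing B] [Algebra A B]

/-- The restriction of `B` along the structure map is `B`. -/
def restrictSelfEquiv :
    (ModuleCat.restrictScalars (algebraMap A B)).obj (ModuleCat.of B B) ≃ₗ[A] B where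
  toFun x := x
  invFun x := x
  map_add' _ _ := rfl
  map_smul' a x := (Algebra.smul_def a (show B from x)).symm
  left_inv _ := rfl
  right_inv _ := rfl

/-- Extension of scalars along the structure map is `B ⊗[A] -`, additively. -/
noncomputable def extendAddEquiv (M : ModuleCat.{u} A) :
    (ModuleCat.extendScalars (algebraMap A B)).obj M ≃+ B ⊗[A] M :=
  (TensorProduct.congr (restrictSelfEquiv (A := A) B) (LinearEquiv.refl A M)).toAddEquiv

set_option backward.isDefEq.respectTransparency false in
lemma extendAddEquiv_smul (M : ModuleCat.{u} A) (b : B)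
    (z : (ModuleCat.extendScalars (algebraMap A B)).obj M) :
    extendAddEquiv B M (b • z) = b • extendAddEquiv B M z := by
  refine TensorProduct.induction_on (motive := fun w =>
    extendAddEquiv B M (b • (show (ModuleCat.extendScalars (algebraMap A B)).obj M from w)) =
      b • extendAddEquiv B M w) z ?_ (fun s m => rfl) fun x y hx hy => ?_
  · exact ((congrArg _ (smul_zero b)).trans (map_zero _)).trans
      ((congrArg (b • ·) (map_zero (extendAddEquiv B M))).trans (smul_zero b)).symm
  · exact (((congrArg _ (smul_add b _ _)).trans (map_add _ _ _)).trans (congrArg₂ (· + ·) hx hy)).trans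
      ((congrArg (b • ·) (map_add (extendAddEquiv B M) _ _)).trans (smul_add b _ _)).symm

/-- Extension of scalars along the structure map is `B ⊗[A] -`. -/
noncomputable def extendEquiv (M : ModuleCat.{u} A) :
    (ModuleCat.extendScalars (algebraMap A B)).obj M ≃ₗ[B] B ⊗[A] M :=
  (extendAddEquiv B M).toLinearEquiv (extendAddEquiv_smul B M)

lemma extendEquiv_map {M N : ModuleCat.{u} A} (g : M ⟶ N)
    (x : (ModuleCat.extendScalars (algebraMap A B)).obj M) :
    extendEquiv B N ((ModuleCat.extendScalars (algebraMap A B)).map g x) =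
      g.hom.baseChange B (extendEquiv B M x) := by
  refine TensorProduct.induction_on (motive := fun w =>
    extendEquiv B N ((ModuleCat.extendScalars (algebraMap A B)).map g
        (show (ModuleCat.extendScalars (algebraMap A B)).obj M from w)) =
      g.hom.baseChange B (extendEquiv B M w)) x ?_ (fun s m => rfl) fun u v hu hv => ?_
  · exact ((congrArg _ (map_zero _)).trans (map_zero _)).trans
      ((congrArg _ (map_zero (extendEquiv B M))).trans (map_zero _)).symm
  · exact (((congrArg _ (map_add _ _ _)).trans (map_add _ _ _)).trans (congrArg₂ (· + ·) hu hv)).trans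
      ((congrArg _ (map_add (extendEquiv B M) _ _)).trans (map_add _ _ _)).symm

/-- Map version of `extendEquiv_map`. -/
lemma extendEquiv_bcCx_d {ι : Type} {c : ComplexShape ι} (P : HomologicalComplex (ModuleCat.{u} A) c)
    (i j : ι) (w : (CohIII.bcCx (algebraMap A B) P).X i) :
    extendEquiv B (P.X j) ((CohIII.bcCx (algebraMap A B) P).d i j w) =
      (P.d i j).hom.baseChange B (extendEquiv B (P.X i) w) :=
  extendEquiv_map B (P.d i j) w

variable {ι : Type} {c : ComplexShape ι} (P : HomologicalComplex (ModuleCat.{u} A) c)

instance flat_bcCx_X [∀ i, Module.Flat A (P.X i)] (i : ι) :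
    Module.Flat B ((CohIII.bcCx (algebraMap A B) P).X i) :=
  Module.Flat.of_linearEquiv (extendEquiv B (P.X i))

instance finite_bcCx_X [∀ i, Module.Finite A (P.X i)] (i : ι) :
    Module.Finite B ((CohIII.bcCx (algebraMap A B) P).X i) :=
  Module.Finite.equiv (extendEquiv B (P.X i)).symm

/-- The cokernel commutes with base change. -/
noncomputable def cokerBCEquiv (i j : ι) :
    Coker (CohIII.bcCx (algebraMap A B) P) i j ≃ₗ[B] B ⊗[A] Coker P i j :=
  let e := extendEquiv B (P.X j)
  (Submodule.Quotient.equiv _ (LinearMap.ker ((cokerπ P i j).baseChange B)) e (by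
      ext y
      rw [LinearMap.mem_ker]
      constructor
      · rintro ⟨_, ⟨w, rfl⟩, rfl⟩
        exact (congrArg ((cokerπ P i j).baseChange B) (extendEquiv_bcCx_d B P i j w)).trans
          ((lTensor_exact B (exact_cokerπ P i j) (Submodule.mkQ_surjective _)).apply_apply_eq_zero _)
      · intro hy
        obtain ⟨w, hw⟩ := (lTensor_exact B (exact_cokerπ P i j) (Submodule.mkQ_surjective _) y).1 hy
        exact ⟨_, ⟨(extendEquiv B (P.X i)).symm w, rfl⟩, (extendEquiv_bcCx_d B P i j _).trans
          ((congrArg _ (LinearEquiv.apply_symm_apply _ w)).trans hw)⟩)).trans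
    (LinearMap.quotKerEquivOfSurjective _ (LinearMap.baseChange_surjective (R := A)
      (g := cokerπ P i j) B (Submodule.mkQ_surjective _)))

lemma flat_coker_bc (i j : ι) [Module.Flat A (Coker P i j)] :
    Module.Flat B (Coker (CohIII.bcCx (algebraMap A B) P) i j) :=
  Module.Flat.of_linearEquiv (cokerBCEquiv B P i j)

lemma flat_coker_bc_iff [Module.FaithfullyFlat A B] (i j : ι) :
    Module.Flat B (Coker (CohIII.bcCx (algebraMap A B) P) i j) ↔ Module.Flat A (Coker P i j) :=
  (Module.Flat.equiv_iff (cokerBCEquiv B P i j)).trans (Module.Flat.iff_flat_tensorProduct A _ B)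

end Groth.FlatCxBase
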