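import Groth.Agent.FlatCxBase.FlatAlg
import Mathlib.Algebra.Homology.HomotopyCategory.Acyclic
import Mathlib.Algebra.Homology.HomotopyCategory.Triangulated
import Mathlib.Algebra.Category.ModuleCat.Biproducts

/-!
Bounded above complexes of flat modules; quasi-isomorphisms and acyclic cones.
-/

universe u v w

open CategoryTheory CategoryTheory.Limits MonoidalCategory HomologicalComplex
open scoped TensorProduct

namespace Groth.FlatCxBase

section Cone

variable {C : Type w} [Category.{v} C] [Abelian C]

lemma quasiIso_iff_cone_acyclic {K L : CochainComplex C ℤ} (φ : K ⟶ L) :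
    QuasiIso φ ↔ (CochainComplex.mappingCone φ).Acyclic := by
  rw [← HomologicalComplex.mem_quasiIso_iff,
    ← HomotopyCategory.quotient_map_mem_quasiIso_iff φ,
    HomotopyCategory.quasiIso_eq_trW_subcategoryAcyclic]
  exact ((HomotopyCategory.subcategoryAcyclic C).trW_iff_of_distinguished
    (CochainComplex.mappingCone.triangleh φ)
    (HomotopyCategory.mappingCone_triangleh_distinguished φ)).trans
      (HomotopyCategory.quotient_obj_mem_subcategoryAcyclic_iff_acyclic (CochainComplex.mappingCone φ))

end Cone

variable {A : Type u} [CommRing A] (F : CochainComplex (ModuleCat.{u} A) ℤ)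

lemma exists_of_isZero_homology {i : ℤ} (h : IsZero (F.homology i)) (x : F.X i)
    (hx : F.d i (i + 1) x = 0) : ∃ w, F.d (i - 1) i w = x :=
  (isZero_homology_iff (cochain_prev i) (cochain_next i)).1 h x hx

lemma range_eq_ker_of_isZero {i j k : ℤ} (hij : i + 1 = j) (hjk : j + 1 = k)
    (h : IsZero (F.homology j)) : LinearMap.range (F.d i j).hom = LinearMap.ker (F.d j k).hom := by
  subst hjk
  obtain rfl : i = j - 1 := by omega
  refine le_antisymm ?_ fun x hx => exists_of_isZero_homology F h x hx
  rintro _ ⟨w, rfl⟩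
  exact ConcreteCategory.congr_hom (F.d_comp_d _ _ _) w

variable [∀ i, Module.Flat A (F.X i)]

lemma flat_ker_step {i j k : ℤ} (hij : i + 1 = j) (hjk : j + 1 = k) (h : IsZero (F.homology j))
    [Module.Flat A (LinearMap.ker (F.d j k).hom)] : Module.Flat A (LinearMap.ker (F.d i j).hom) := by
  have : Module.Flat A (LinearMap.range (F.d i j).hom) := by
    rw [range_eq_ker_of_isZero F hij hjk h]; infer_instance
  exact flat_ker_of_flat_range _

/-- The cocycles of a bounded above flat complex which is acyclic above `d` are flat. -/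
lemma flat_ker_of_acyclic (b d : ℤ) (hb : ∀ i, b < i → IsZero (F.X i))
    (hac : ∀ p, d < p → IsZero (F.homology p)) :
    ∀ i j : ℤ, i + 1 = j → d ≤ i → Module.Flat A (LinearMap.ker (F.d i j).hom) := by
  suffices ∀ n : ℕ, ∀ i j : ℤ, i + 1 = j → d ≤ i → b < i + n →
      Module.Flat A (LinearMap.ker (F.d i j).hom) from
    fun i j hij hdi => this (b + 1 - i).toNat i j hij hdi (by omega)
  intro n
  induction n with
  | zero =>
    intro i j hij hdi hbi
    have := ModuleCat.subsingleton_of_isZero (hb i (by omega))
    infer_instance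
  | succ n ih =>
    intro i j hij hdi hbi
    have := ih j (j + 1) rfl (by omega) (by omega)
    exact flat_ker_step F hij rfl (hac j (by omega))

/-- Tensoring keeps a bounded above acyclic complex of flat modules acyclic. -/
lemma exact_rTensor_of_acyclic (b : ℤ) (hb : ∀ i, b < i → IsZero (F.X i)) (hac : F.Acyclic)
    (M : Type u) [AddCommGroup M] [Module A M] (j : ℤ) (x : F.X j ⊗[A] M)
    (hx : (F.d j (j + 1)).hom.rTensor M x = 0) :
    ∃ w, (F.d (j - 1) j).hom.rTensor M w = x := by
  have hz : ∀ p, IsZero (F.homology p) := fun p => (hac p).isZero_homology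
  have hflat : ∀ i k : ℤ, i + 1 = k → Module.Flat A (LinearMap.ker (F.d i k).hom) := fun i k h =>
    flat_ker_of_acyclic F b (i - 1) hb (fun p _ => hz p) i k h (by omega)
  have hR : ∀ i k : ℤ, i + 1 = k → Module.Flat A (LinearMap.range (F.d i k).hom) := fun i k h => by
    rw [range_eq_ker_of_isZero F h rfl (hz k)]
    exact hflat k (k + 1) rfl
  have := hR (j + 1) (j + 1 + 1) rfl
  have hi : Function.Injective ((LinearMap.range (F.d j (j + 1)).hom).subtype.rTensor M) := by
    refine rTensor_injective_of_flat (g := (F.d (j + 1) (j + 1 + 1)).hom.rangeRestrict)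
      Subtype.val_injective (LinearMap.surjective_rangeRestrict _) ?_ M
    rw [LinearMap.exact_iff, LinearMap.ker_rangeRestrict, Submodule.range_subtype]
    exact (range_eq_ker_of_isZero F rfl rfl (hz (j + 1))).symm
  have hx' : (F.d j (j + 1)).hom.rangeRestrict.rTensor M x = 0 := by
    apply hi
    rw [map_zero, ← LinearMap.rTensor_comp_apply]
    exact hx
  refine (rTensor_exact M ?_ (LinearMap.surjective_rangeRestrict _) x).1 hx'
  rw [LinearMap.exact_iff, LinearMap.ker_rangeRestrict]
  exact (range_eq_ker_of_isZero F (by omega) rfl (hz j)).symm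

lemma acyclic_tensor (b : ℤ) (hb : ∀ i, b < i → IsZero (F.X i)) (hac : F.Acyclic)
    (M : ModuleCat.{u} A) : (CohIII.tensorObj F M).Acyclic := by
  intro j
  rw [HomologicalComplex.exactAt_iff_isZero_homology]
  exact (isZero_T_iff F (cochain_prev j) (cochain_next j) M).2
    fun x hx => exact_rTensor_of_acyclic F b hb hac M j x hx

omit [∀ i, Module.Flat A (F.X i)] in
lemma quasiIso_tensor {C D : CochainComplex (ModuleCat.{u} A) ℤ}
    [∀ i, Module.Flat A (C.X i)] [∀ i, Module.Flat A (D.X i)] (bC bD : ℤ)
    (hC : ∀ i, bC < i → IsZero (C.X i)) (hD : ∀ i, bD < i → IsZero (D.X i))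
    (φ : C ⟶ D) [QuasiIso φ] (M : ModuleCat.{u} A) :
    QuasiIso (((tensorRight M).mapHomologicalComplex (ComplexShape.up ℤ)).map φ) := by
  rw [quasiIso_iff_cone_acyclic]
  let K := CochainComplex.mappingCone φ
  let e : ∀ i, K.X i ≅ C.X (i + 1) ⊞ D.X i := fun i => HomologicalComplex.homotopyCofiber.XIsoBiprod φ i (i + 1) rfl
  have : ∀ i, Module.Flat A (K.X i) := fun i =>
    have : Module.Flat A (C.X (i + 1) × D.X i) :=
      flat_of_exact_flat_right (f := LinearMap.inl A (C.X (i + 1)) (D.X i)) (g := LinearMap.snd A _ _)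
        LinearMap.inl_injective LinearMap.snd_surjective Function.Exact.inl_snd
    Module.Flat.of_linearEquiv (M := C.X (i + 1) × D.X i)
      ((e i ≪≫ ModuleCat.biprodIsoProd _ _).toLinearEquiv)
  have hKb : ∀ i, max bC bD < i → IsZero (K.X i) := fun i hi => by
    have := ModuleCat.subsingleton_of_isZero (hC (i + 1) (by omega))
    have := ModuleCat.subsingleton_of_isZero (hD i (by omega))
    exact (ModuleCat.isZero_of_subsingleton (ModuleCat.of A (C.X (i + 1) × D.X i))).of_iso
      (e i ≪≫ ModuleCat.biprodIsoProd _ _)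
  have h := acyclic_tensor K _ hKb ((quasiIso_iff_cone_acyclic φ).1 inferInstance) M
  intro i
  exact HomologicalComplex.ExactAt.of_iso (h i)
    (CochainComplex.mappingCone.mapHomologicalComplexIso φ (tensorRight M))

end Groth.FlatCxBase
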