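import Groth.Agent.FlatCxBase.FlatAlg
import Mathlib.CategoryTheory.Linear.Yoneda
import Mathlib.LinearAlgebra.Contraction
import Mathlib.LinearAlgebra.Dual.Lemmas
import Mathlib.RingTheory.Flat.EquationalCriterion

/-!
Corepresentability of a left exact `T_p`.
-/

universe u

open CategoryTheory CategoryTheory.Limits MonoidalCategory HomologicalComplex Opposite
open scoped TensorProduct

namespace Groth.FlatCxBase

variable {A : Type u} [CommRing A]

section Dual

variable (X : Type u) [AddCommGroup X] [Module A X] (M : Type u) [AddCommGroup M] [Module A M]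

/-- `X ⊗ M → Hom (X^*, M)`. -/
noncomputable def evalHom : X ⊗[A] M →ₗ[A] Module.Dual A X →ₗ[A] M :=
  (dualTensorHom A (Module.Dual A X) M).comp ((Module.Dual.eval A X).rTensor M)

@[simp] lemma evalHom_tmul (x : X) (m : M) (φ : Module.Dual A X) :
    evalHom X M (x ⊗ₜ m) φ = φ x • m := by
  simp [evalHom, dualTensorHom_apply]

lemma evalHom_rTensor {Y : Type u} [AddCommGroup Y] [Module A Y] (f : X →ₗ[A] Y) (z : X ⊗[A] M)
    (ψ : Module.Dual A Y) : evalHom Y M (f.rTensor M z) ψ = evalHom X M z (f.dualMap ψ) := by
  induction z using TensorProduct.induction_on with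
  | zero => simp
  | add a b ha hb => simp only [map_add, LinearMap.add_apply, ha, hb]
  | tmul x m => simp

lemma evalHom_lTensor {N : Type u} [AddCommGroup N] [Module A N] (g : M →ₗ[A] N) (z : X ⊗[A] M)
    (φ : Module.Dual A X) : evalHom X N (g.lTensor X z) φ = g (evalHom X M z φ) := by
  induction z using TensorProduct.induction_on with
  | zero => simp
  | add a b ha hb => simp only [map_add, LinearMap.add_apply, ha, hb]
  | tmul x m => simp

variable [Module.Finite A X] [Module.Projective A X]

lemma evalHom_bijective : Function.Bijective (evalHom (A := A) X M) := by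
  have h1 : Function.Bijective (dualTensorHom A (Module.Dual A X) M) :=
    (dualTensorHomEquiv A (Module.Dual A X) M).bijective
  have h2 : Function.Bijective ((Module.Dual.eval A X).rTensor M) := ((Module.evalEquiv A X).rTensor M).bijective
  exact h1.comp h2

end Dual

variable (P : ChainComplex (ModuleCat.{u} A) ℤ) (p : ℤ)

/-- The corepresenting module. -/
noncomputable abbrev corepObj : ModuleCat.{u} A :=
  ModuleCat.of A (Module.Dual A (Chain.Q P p) ⧸ LinearMap.range (dBarC P p).dualMap)

/-- Evaluation of a cycle. -/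
noncomputable def corepPre (M : ModuleCat.{u} A) :
    LinearMap.ker ((P.d p (p - 1)).hom.rTensor M) →ₗ[A] (corepObj P p →ₗ[A] M) where
  toFun x := (LinearMap.range (dBarC P p).dualMap).liftQ
    (evalHom (Chain.Q P p) M ((cokerπ P (p + 1) p).rTensor M x.1)) (by
      rintro _ ⟨ψ, rfl⟩
      rw [LinearMap.mem_ker, ← evalHom_rTensor, ← LinearMap.rTensor_comp_apply, dBar_comp,
        LinearMap.mem_ker.1 x.2, map_zero, LinearMap.zero_apply])
  map_add' x y := by
    refine Submodule.linearMap_qext _ (LinearMap.ext fun φ => ?_)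
    simp
  map_smul' a x := by
    refine Submodule.linearMap_qext _ (LinearMap.ext fun φ => ?_)
    simp

lemma corepPre_mk (M : ModuleCat.{u} A) (x : LinearMap.ker ((P.d p (p - 1)).hom.rTensor M))
    (φ : Module.Dual A (Chain.Q P p)) :
    corepPre P p M x (Submodule.Quotient.mk φ) =
      evalHom (Chain.Q P p) M ((cokerπ P (p + 1) p).rTensor M x.1) φ := rfl

lemma ker_clsT_le (M : ModuleCat.{u} A) :
    LinearMap.ker (clsT P (chain_next p) M) ≤ LinearMap.ker (corepPre P p M) := by
  intro x hx
  have h := (rTensor_cokerπ_eq_zero_iff P M (p + 1) p x.1).2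
    ((clsT_eq_zero_iff P _ M (chain_prev p) x).1 hx)
  refine Submodule.linearMap_qext _ (LinearMap.ext fun φ => ?_)
  show evalHom (Chain.Q P p) M ((cokerπ P (p + 1) p).rTensor M x.1) φ = 0
  rw [h, map_zero, LinearMap.zero_apply]

/-- `T_p M → Hom (Q, M)`. -/
noncomputable def corepMap (M : ModuleCat.{u} A) :
    (CohIII.TFun P p).obj M →ₗ[A] (corepObj P p →ₗ[A] M) :=
  ((LinearMap.ker (clsT P (chain_next p) M)).liftQ _ (ker_clsT_le P p M)).comp
    ((clsT P (chain_next p) M).quotKerEquivOfSurjective (clsT_surjective P _ M)).symm.toLinearMap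

lemma corepMap_clsT (M : ModuleCat.{u} A) (x : LinearMap.ker ((P.d p (p - 1)).hom.rTensor M)) :
    corepMap P p M (clsT P (chain_next p) M x) = corepPre P p M x := by
  have : ((clsT P (chain_next p) M).quotKerEquivOfSurjective (clsT_surjective P _ M)).symm
      (clsT P (chain_next p) M x) = Submodule.Quotient.mk x :=
    (LinearEquiv.symm_apply_eq _).2 rfl
  simp only [corepMap, LinearMap.comp_apply, LinearEquiv.coe_coe, this, Submodule.liftQ_apply]

variable [IsNoetherianRing A] [∀ i, Module.Finite A (P.X i)] [∀ i, Module.Flat A (P.X i)]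
  [Module.Flat A (Chain.Q P p)]

lemma corepMap_bijective (M : ModuleCat.{u} A) : Function.Bijective (corepMap P p M) := by
  have : Module.Projective A (Chain.Q P p) := by
    have := Module.finitePresentation_of_finite A (Chain.Q P p)
    exact Module.Flat.projective_of_finitePresentation
  have : Module.Projective A (P.X (p - 1)) := by
    have := Module.finitePresentation_of_finite A (P.X (p - 1))
    exact Module.Flat.projective_of_finitePresentation
  constructor
  · rw [injective_iff_map_eq_zero]
    intro a ha
    obtain ⟨x, rfl⟩ := clsT_surjective P (chain_next p) M a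
    rw [corepMap_clsT] at ha
    refine (clsT_eq_zero_iff P _ M (chain_prev p) x).2 ((rTensor_cokerπ_eq_zero_iff P M _ _ x.1).1 ?_)
    refine (evalHom_bijective (Chain.Q P p) M).1 (LinearMap.ext fun φ => ?_)
    rw [← corepPre_mk, ha, map_zero, LinearMap.zero_apply, LinearMap.zero_apply]
  · intro h
    obtain ⟨z, hz⟩ := (evalHom_bijective (Chain.Q P p) M).2
      (h.comp (LinearMap.range (dBarC P p).dualMap).mkQ)
    obtain ⟨x, rfl⟩ := LinearMap.rTensor_surjective M (Submodule.mkQ_surjective _) z
    have hx : (P.d p (p - 1)).hom.rTensor M x = 0 := by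
      refine (evalHom_bijective (P.X (p - 1)) M).1 (LinearMap.ext fun ψ => ?_)
      rw [← dBar_comp P (p + 1) p (p - 1), LinearMap.rTensor_comp_apply, evalHom_rTensor, hz,
        LinearMap.comp_apply, Submodule.mkQ_apply,
        (Submodule.Quotient.mk_eq_zero _).2 (LinearMap.mem_range_self (dBarC P p).dualMap ψ), map_zero,
        map_zero, LinearMap.zero_apply]
    refine ⟨clsT P (chain_next p) M ⟨x, hx⟩, ?_⟩
    rw [corepMap_clsT]
    refine Submodule.linearMap_qext _ (LinearMap.ext fun φ => ?_)
    exact LinearMap.congr_fun hz φ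

/-- The natural isomorphism. -/
noncomputable def corepIso :
    CohIII.TFun P p ≅ (linearCoyoneda A (ModuleCat.{u} A)).obj (op (corepObj P p)) :=
  NatIso.ofComponents
    (fun M => ((LinearEquiv.ofBijective _ (corepMap_bijective P p M)).trans
      (ModuleCat.homLinearEquiv (S := A) (M := corepObj P p) (N := M)).symm).toModuleIso)
    (fun {M N} g => by
      ext1
      refine LinearMap.ext fun a => ?_
      obtain ⟨x, rfl⟩ := clsT_surjective P (chain_next p) M a
      show ModuleCat.ofHom (corepMap P p N ((CohIII.TFun P p).map g (clsT P (chain_next p) M x))) =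
        ModuleCat.ofHom (corepMap P p M (clsT P (chain_next p) M x)) ≫ g
      rw [TFun_map_clsT, corepMap_clsT, corepMap_clsT]
      ext1
      refine Submodule.linearMap_qext _ (LinearMap.ext fun φ => ?_)
      show evalHom (Chain.Q P p) N ((cokerπ P (p + 1) p).rTensor N (g.hom.lTensor (P.X p) x.1)) φ =
        g.hom (evalHom (Chain.Q P p) M ((cokerπ P (p + 1) p).rTensor M x.1) φ)
      rw [← lTensor_rTensor, evalHom_lTensor])

omit [IsNoetherianRing A] [∀ i, Module.Finite A (P.X i)] [∀ i, Module.Flat A (P.X i)]
  [Module.Flat A (Chain.Q P p)] in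
lemma preservesMono_linearCoyoneda (Q : ModuleCat.{u} A) :
    ((linearCoyoneda A (ModuleCat.{u} A)).obj (op Q)).PreservesMonomorphisms := by
  refine ⟨fun f hf => (ModuleCat.mono_iff_injective _).2 fun a b h => ?_⟩
  exact (cancel_mono f).1 h

end Groth.FlatCxBase
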