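import Groth.Agent.FlatCxBase.BaseChange
import Mathlib.RingTheory.Flat.Equalizer
import Mathlib.RingTheory.Spectrum.Prime.FreeLocus
import Mathlib.RingTheory.Support
import Mathlib.RingTheory.Flat.Localization
import Mathlib.RingTheory.LocalProperties.Reduced
import Mathlib.Topology.Semicontinuity.Basic
import Mathlib.LinearAlgebra.Dimension.OrzechProperty

/-!
`H_j (P_B)` as the kernel of `B ⊗ (P_j / im → P_k)`; fibre dimensions; the rank function `dRank`.
-/

universe u

open CategoryTheory CategoryTheory.Limits MonoidalCategory HomologicalComplex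
open scoped TensorProduct ChangeOfRings

namespace Groth.FlatCxBase

section General

variable {R : Type u} [CommRing R] {ι : Type} {c : ComplexShape ι}
  (K : HomologicalComplex (ModuleCat.{u} R) c) {i j k : ι}

/-- `ker d → ker dBar`. -/
noncomputable def kerToKerDBar (i j k : ι) :
    LinearMap.ker (K.d j k).hom →ₗ[R] LinearMap.ker (dBar K i j k) :=
  LinearMap.codRestrict _ ((cokerπ K i j).comp (LinearMap.ker (K.d j k).hom).subtype)
    fun x => (LinearMap.congr_fun (dBar_comp K i j k) x.1).trans x.2

lemma kerToKerDBar_surjective (i j k : ι) : Function.Surjective (kerToKerDBar K i j k) := by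
  rintro ⟨q, hq⟩
  obtain ⟨x, rfl⟩ := Submodule.mkQ_surjective _ q
  exact ⟨⟨x, (LinearMap.congr_fun (dBar_comp K i j k) x).symm.trans hq⟩, rfl⟩

lemma ker_kerToKerDBar (i j k : ι) :
    LinearMap.ker (kerToKerDBar K i j k) =
      (LinearMap.range (K.d i j).hom).comap (LinearMap.ker (K.d j k).hom).subtype := by
  refine (LinearMap.ker_codRestrict _ _ _).trans ?_
  rw [LinearMap.ker_comp, Submodule.ker_mkQ]

/-- Homology is the kernel of `P_j / im → P_k`. -/
noncomputable def homologyEquivKer (hi : c.prev j = i) (hk : c.next j = k) :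
    K.homology j ≃ₗ[R] LinearMap.ker (dBar K i j k) :=
  (homologyEquivQuot K hi hk).symm.trans
    ((Submodule.quotEquivOfEq _ _ (ker_kerToKerDBar K i j k).symm).trans
      (LinearMap.quotKerEquivOfSurjective _ (kerToKerDBar_surjective K i j k)))

end General

section BC

variable {A : Type u} [CommRing A] (B : Type u) [CommRing B] [Algebra A B]
variable {ι : Type} {c : ComplexShape ι} (P : HomologicalComplex (ModuleCat.{u} A) c) {i j k : ι}

lemma cokerBCEquiv_mk (x : (CohIII.bcCx (algebraMap A B) P).X j) :
    cokerBCEquiv B P i j (cokerπ _ i j x) = (cokerπ P i j).baseChange B (extendEquiv B (P.X j) x) :=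
  rfl

lemma dBar_bc (q : Coker (CohIII.bcCx (algebraMap A B) P) i j) :
    extendEquiv B (P.X k) (dBar (CohIII.bcCx (algebraMap A B) P) i j k q) =
      (dBar P i j k).baseChange B (cokerBCEquiv B P i j q) := by
  obtain ⟨x, rfl⟩ := Submodule.mkQ_surjective _ q
  rw [cokerBCEquiv_mk]
  have h : (dBar (CohIII.bcCx (algebraMap A B) P) i j k) (cokerπ _ i j x) =
      (CohIII.bcCx (algebraMap A B) P).d j k x := LinearMap.congr_fun (dBar_comp _ i j k) x
  rw [h, extendEquiv_bcCx_d, ← LinearMap.comp_apply, ← LinearMap.baseChange_comp, dBar_comp]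

/-- `H_j(P_B)` as the kernel of the base-changed map `B ⊗ (P_j / im) → B ⊗ P_k`. -/
noncomputable def homologyBCEquiv (hi : c.prev j = i) (hk : c.next j = k) :
    (CohIII.bcCx (algebraMap A B) P).homology j ≃ₗ[B] LinearMap.ker ((dBar P i j k).baseChange B) :=
  (homologyEquivKer _ hi hk).trans (LinearEquiv.ofSubmodules (cokerBCEquiv B P i j) _ _ (by
    ext y
    constructor
    · rintro ⟨q, hq, rfl⟩
      rw [SetLike.mem_coe, LinearMap.mem_ker] at hq
      rw [LinearMap.mem_ker]
      exact (dBar_bc B P q).symm.trans ((congrArg _ hq).trans (map_zero _))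
    · intro hy
      refine ⟨(cokerBCEquiv B P i j).symm y, ?_, (cokerBCEquiv B P i j).apply_symm_apply y⟩
      rw [SetLike.mem_coe, LinearMap.mem_ker]
      apply (extendEquiv B (P.X k)).injective
      exact (dBar_bc B P _).trans (((congrArg _ (LinearEquiv.apply_symm_apply _ y)).trans
        (LinearMap.mem_ker.1 hy)).trans (map_zero (extendEquiv B (P.X k))).symm)))

end BC

/-- If the cokernel and the target of `f` are flat, kernels commute with base change. -/
noncomputable def kerBaseChangeEquiv {A : Type u} [CommRing A] (B : Type u) [CommRing B] [Algebra A B]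
    {X Y : Type u} [AddCommGroup X] [Module A X] [AddCommGroup Y] [Module A Y] (f : X →ₗ[A] Y)
    [Module.Flat A Y] [Module.Flat A (Y ⧸ LinearMap.range f)] :
    B ⊗[A] LinearMap.ker f ≃ₗ[B] LinearMap.ker (f.baseChange B) :=
  LinearEquiv.ofBijective
    (((LinearMap.ker f).subtype.baseChange B).codRestrict _ fun z =>
      LinearMap.mem_ker.2 <| by
        rw [← LinearMap.comp_apply, ← LinearMap.baseChange_comp,
          (LinearMap.exact_subtype_ker_map f).linearMap_comp_eq_zero]
        simp)
    (by
      have hrange : Module.Flat A (LinearMap.range f) := by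
        refine Module.Flat.iff_lTensor_preserves_injective_linearMap.2 fun M N _ _ _ _ g hg => ?_
        refine Function.Injective.of_comp (f := (LinearMap.range f).subtype.rTensor N) ?_
        rw [← LinearMap.coe_comp, LinearMap.rTensor_comp_lTensor, ← LinearMap.lTensor_comp_rTensor,
          LinearMap.coe_comp]
        refine (Module.Flat.lTensor_preserves_injective_linearMap g hg).comp ?_
        rw [← LinearMap.lTensor_inj_iff_rTensor_inj]
        exact LinearMap.lTensor_injective_of_exact_of_flat (LinearMap.range f).mkQ
          (Submodule.mkQ_surjective _) _ Subtype.val_injective (LinearMap.exact_subtype_mkQ _) M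
      have hinj : Function.Injective ((LinearMap.range f).subtype.lTensor B) :=
        LinearMap.lTensor_injective_of_exact_of_flat (LinearMap.range f).mkQ
          (Submodule.mkQ_surjective _) _ Subtype.val_injective (LinearMap.exact_subtype_mkQ _) B
      have hex : Function.Exact (LinearMap.ker f).subtype f.rangeRestrict := by
        rw [LinearMap.exact_iff, LinearMap.ker_rangeRestrict, Submodule.range_subtype]
      constructor
      · intro z w h
        exact LinearMap.lTensor_injective_of_exact_of_flat f.rangeRestrict f.surjective_rangeRestrict _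
          Subtype.val_injective hex B (congrArg Subtype.val h)
      · rintro ⟨y, hy⟩
        have hy' : f.rangeRestrict.lTensor B y = 0 := by
          apply hinj
          rw [map_zero, ← LinearMap.lTensor_comp_apply, LinearMap.subtype_comp_codRestrict]
          exact hy
        obtain ⟨z, hz⟩ := (lTensor_exact B hex f.surjective_rangeRestrict y).1 hy'
        exact ⟨z, Subtype.ext hz⟩)

section FibreDim

variable {A : Type u} [CommRing A]

/-- The dimension of the fibre of a module at a prime. -/
noncomputable def fdim (M : Type u) [AddCommGroup M] [Module A M] (x : PrimeSpectrum A) : ℕ :=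
  Module.finrank x.asIdeal.ResidueField (x.asIdeal.ResidueField ⊗[A] M)

variable (M : Type u) [AddCommGroup M] [Module A M]

lemma fdim_eq_rankAtStalk [Module.Finite A M] [Module.Flat A M] (x : PrimeSpectrum A) :
    fdim M x = Module.rankAtStalk M x := (Module.rankAtStalk_eq x).symm

lemma isLocallyConstant_fdim [Module.FinitePresentation A M] [Module.Flat A M] :
    IsLocallyConstant (fdim (A := A) M) := by
  rw [show fdim (A := A) M = Module.rankAtStalk M from funext (fdim_eq_rankAtStalk M)]
  exact Module.isLocallyConstant_rankAtStalk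

lemma fdim_congr {N : Type u} [AddCommGroup N] [Module A N] (e : M ≃ₗ[A] N) (x : PrimeSpectrum A) :
    fdim M x = fdim N x := (e.baseChange A x.asIdeal.ResidueField _ _).finrank_eq

variable [Module.Finite A M]

/-- Finitely many elements with prescribed number spanning `M` near `x`. -/
lemma exists_span_notMem_support (x : PrimeSpectrum A) :
    ∃ m : Fin (fdim M x) → M,
      x ∉ Module.support A (M ⧸ Submodule.span A (Set.range m)) := by
  set K := x.asIdeal.ResidueField
  have hsp : Submodule.span K (Set.range fun m : M => (1 : K) ⊗ₜ[A] m) = ⊤ := by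
    rw [eq_top_iff]
    rintro z -
    induction z using TensorProduct.induction_on with
    | zero => exact zero_mem _
    | add a b ha hb => exact add_mem ha hb
    | tmul a m =>
      rw [show a ⊗ₜ[A] m = a • ((1 : K) ⊗ₜ[A] m) by rw [TensorProduct.smul_tmul', smul_eq_mul, mul_one]]
      exact Submodule.smul_mem _ _ (Submodule.subset_span ⟨m, rfl⟩)
  obtain ⟨b, hb, hb2, hbli⟩ := exists_linearIndependent K (Set.range fun m : M => (1 : K) ⊗ₜ[A] m)
  rw [hsp] at hb2
  let bas : Module.Basis b K (K ⊗[A] M) := Module.Basis.mk hbli (by rw [Subtype.range_coe]; exact hb2.ge)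
  have : Finite b := Module.Finite.finite_basis bas
  have := Fintype.ofFinite b
  let e : Fin (fdim M x) ≃ b := (Fintype.equivFinOfCardEq (Module.finrank_eq_card_basis bas).symm).symm
  choose g hg using fun i : b => hb i.2
  refine ⟨g ∘ e, ?_⟩
  intro hx
  rw [Module.mem_support_iff_nontrivial_residueField_tensorProduct] at hx
  refine not_subsingleton_iff_nontrivial.2 hx (subsingleton_of_forall_eq 0 fun z => ?_)
  obtain ⟨w, rfl⟩ := LinearMap.lTensor_surjective K (Submodule.mkQ_surjective _) z
  have hw : w ∈ Submodule.span K (b : Set (K ⊗[A] M)) := hb2 ▸ Submodule.mem_top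
  have : Submodule.span K (b : Set (K ⊗[A] M)) ≤
      LinearMap.ker ((Submodule.span A (Set.range (g ∘ e))).mkQ.baseChange K) := by
    rw [Submodule.span_le]
    intro v hv
    rw [SetLike.mem_coe, LinearMap.mem_ker, show v = (1 : K) ⊗ₜ[A] g ⟨v, hv⟩ from (hg ⟨v, hv⟩).symm,
      LinearMap.baseChange_tmul,
      Submodule.mkQ_apply, (Submodule.Quotient.mk_eq_zero _).2
        (Submodule.subset_span (Set.mem_range.2 ⟨e.symm ⟨v, hv⟩, by simp⟩)), TensorProduct.tmul_zero]
  exact LinearMap.mem_ker.1 (this hw)

/-- If `m` spans `M` at `z` then the `1 ⊗ m_i` span the fibre. -/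
lemma span_fibre_eq_top {κ : Type*} (m : κ → M) (z : PrimeSpectrum A)
    (hz : z ∉ Module.support A (M ⧸ Submodule.span A (Set.range m))) :
    Submodule.span z.asIdeal.ResidueField
      (Set.range fun i => (1 : z.asIdeal.ResidueField) ⊗ₜ[A] m i) = ⊤ := by
  set K := z.asIdeal.ResidueField
  set N := Submodule.span A (Set.range m)
  rw [Module.mem_support_iff_nontrivial_residueField_tensorProduct, not_nontrivial_iff_subsingleton] at hz
  rw [eq_top_iff]
  rintro w -
  obtain ⟨v, rfl⟩ := (lTensor_exact K (LinearMap.exact_subtype_mkQ N) (Submodule.mkQ_surjective _) w).1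
    (Subsingleton.elim _ _)
  induction v using TensorProduct.induction_on with
  | zero => rw [map_zero]; exact zero_mem _
  | add a b ha hb => rw [map_add]; exact add_mem ha hb
  | tmul a n =>
    obtain ⟨n, hn⟩ := n
    rw [LinearMap.lTensor_tmul, Submodule.subtype_apply,
      show a ⊗ₜ[A] n = a • ((1 : K) ⊗ₜ[A] n) by rw [TensorProduct.smul_tmul', smul_eq_mul, mul_one]]
    refine Submodule.smul_mem _ _ ?_
    clear a
    induction hn using Submodule.span_induction with
    | mem y hy => obtain ⟨i, rfl⟩ := hy; exact Submodule.subset_span ⟨i, rfl⟩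
    | zero => rw [TensorProduct.tmul_zero]; exact zero_mem _
    | add y y' _ _ h h' => rw [TensorProduct.tmul_add]; exact add_mem h h'
    | smul r y _ h => rw [TensorProduct.tmul_smul]; exact Submodule.smul_of_tower_mem _ r h

lemma eventually_fdim_le (x : PrimeSpectrum A) : ∀ᶠ z in nhds x, fdim M z ≤ fdim M x := by
  obtain ⟨m, hm⟩ := exists_span_notMem_support M x
  refine Filter.eventually_of_mem ((Module.isClosed_support (R := A)
    (M := M ⧸ Submodule.span A (Set.range m))).isOpen_compl.mem_nhds hm) fun z hz => ?_
  have h1 := span_fibre_eq_top M m z hz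
  have h2 := finrank_range_le_card (R := z.asIdeal.ResidueField)
    (fun i : Fin (fdim M x) => (1 : z.asIdeal.ResidueField) ⊗ₜ[A] m i)
  rw [Set.finrank, h1, finrank_top, Fintype.card_fin] at h2
  exact h2

lemma fdim_le_of_le {x z : PrimeSpectrum A} (h : z ≤ x) : fdim M z ≤ fdim M x :=
  ((PrimeSpectrum.le_iff_specializes z x).1 h).pure_le_nhds (eventually_fdim_le M x)

/-- Over a reduced ring, a finite module with constant fibre dimension is flat. -/
lemma flat_of_fdim_eq [IsReduced A]
    (h : ∀ x : PrimeSpectrum A, x.asIdeal.IsMaximal → ∀ z ≤ x, fdim M z = fdim M x) :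
    Module.Flat A M := by
  apply Module.flat_of_localized_maximal
  intro J hJ
  let x : PrimeSpectrum A := ⟨J, inferInstance⟩
  obtain ⟨m, hm⟩ := exists_span_notMem_support M x
  let Ap := Localization.AtPrime J
  let loc := LocalizedModule.mkLinearMap J.primeCompl M
  have : Module.Flat A Ap := IsLocalization.flat Ap J.primeCompl
  suffices Module.Free Ap (LocalizedModule J.primeCompl M) from Module.Flat.trans A Ap _
  have hm' := hm
  rw [Module.notMem_support_iff'] at hm
  let m' : Fin (fdim M x) → LocalizedModule J.primeCompl M := fun i => loc (m i)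
  have hspan : ⊤ ≤ Submodule.span Ap (Set.range m') := by
    rintro w -
    induction w using LocalizedModule.induction_on with
    | h y s =>
      obtain ⟨t, ht, hty⟩ := hm (Submodule.Quotient.mk y)
      rw [← Submodule.Quotient.mk_smul, Submodule.Quotient.mk_eq_zero] at hty
      have h1 : loc (t • y) ∈ Submodule.span Ap (Set.range m') := by
        have : loc (t • y) ∈ (Submodule.span A (Set.range m)).map loc := Submodule.mem_map_of_mem hty
        rw [Submodule.map_span, ← Set.range_comp] at this
        exact Submodule.span_subset_span A Ap _ this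
      have hy : LocalizedModule.mk y s = (Localization.mk 1 (s * ⟨t, ht⟩) : Ap) • loc (t • y) := by
        show _ = _ • LocalizedModule.mk _ 1
        rw [LocalizedModule.mk_smul_mk, one_smul, mul_one, LocalizedModule.mk_eq]
        exact ⟨1, by simp [Submonoid.smul_def, mul_smul]⟩
      rw [hy]
      exact Submodule.smul_mem _ _ h1
  have hli : LinearIndependent Ap m' := by
    rw [Fintype.linearIndependent_iff]
    intro a ha
    obtain ⟨s, hs⟩ := IsLocalization.exist_integer_multiples J.primeCompl Finset.univ a
    choose b hb using fun i => hs i (Finset.mem_univ i)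
    have h0 : loc (∑ l, b l • m l) = 0 := by
      rw [map_sum]
      calc ∑ l, loc (b l • m l) = ∑ l, (s : A) • (a l • m' l) := by
            refine Finset.sum_congr rfl fun l _ => ?_
            rw [map_smul, ← algebraMap_smul Ap (b l), hb, smul_assoc]
        _ = 0 := by rw [← Finset.smul_sum, ha, smul_zero]
    obtain ⟨⟨t, ht⟩, hts⟩ := (IsLocalizedModule.eq_zero_iff J.primeCompl loc).1 h0
    change t • ∑ l, b l • m l = 0 at hts
    have hb0 : ∀ i, algebraMap A Ap (b i) = 0 := by
      intro i
      refine (isNilpotent_iff_eq_zero (R := Ap)).1 (nilpotent_iff_mem_prime.2 fun q hq => ?_)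
      let z : PrimeSpectrum A := PrimeSpectrum.comap (algebraMap A Ap) ⟨q, hq⟩
      have hzx : z ≤ x := fun r hr => by
        by_contra hrx
        exact hq.ne_top (Ideal.eq_top_of_isUnit_mem _ hr
          (IsLocalization.map_units Ap (⟨r, hrx⟩ : J.primeCompl)))
      have hzs : z ∉ Module.support A (M ⧸ Submodule.span A (Set.range m)) := fun hzs =>
        hm' (Module.mem_support_mono hzx hzs)
      have hli := linearIndependent_of_top_le_span_of_card_eq_finrank
        (span_fibre_eq_top M m z hzs).ge (by rw [Fintype.card_fin]; exact (h x hJ z hzx).symm)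
      have hrel : ∑ l, algebraMap A z.asIdeal.ResidueField (t * b l) •
          ((1 : z.asIdeal.ResidueField) ⊗ₜ[A] m l) = 0 := by
        simp_rw [algebraMap_smul, ← TensorProduct.tmul_smul, ← TensorProduct.tmul_sum, mul_smul,
          ← Finset.smul_sum, hts, TensorProduct.tmul_zero]
      have := Fintype.linearIndependent_iff.1 hli _ hrel i
      rw [Ideal.algebraMap_residueField_eq_zero] at this
      exact (z.isPrime.mem_or_mem this).resolve_left fun htz => ht (hzx htz)
    intro i
    have h1 : (s : A) • a i = 0 := (hb i).symm.trans (hb0 i)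
    rw [← algebraMap_smul Ap (s : A), smul_eq_mul] at h1
    exact (IsLocalization.map_units Ap s).mul_right_eq_zero.1 h1
  exact Module.Free.of_basis (Module.Basis.mk hli hspan)

end FibreDim

end Groth.FlatCxBase
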