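import Groth.Agent.FlatCxBase.Criteria
import Mathlib.RingTheory.Filtration
import Mathlib.LinearAlgebra.TensorProduct.Quotient

/-!
Lifting cycles modulo an ideal by Artin–Rees.
-/

universe u

open CategoryTheory CategoryTheory.Limits MonoidalCategory HomologicalComplex
open scoped TensorProduct

namespace Groth.FlatCxBase

variable {A : Type u} [CommRing A]

/-- `t ↦ t ⊗ 1`. -/
noncomputable abbrev modI (I : Ideal A) (X : Type u) [AddCommGroup X] [Module A X] :
    X →ₗ[A] X ⊗[A] (A ⧸ I) :=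
  (TensorProduct.mk A X (A ⧸ I)).flip 1

lemma modI_surjective (I : Ideal A) (X : Type u) [AddCommGroup X] [Module A X] :
    Function.Surjective (modI I X) := by
  intro z
  induction z using TensorProduct.induction_on with
  | zero => exact ⟨0, map_zero _⟩
  | add a b ha hb =>
    obtain ⟨a, rfl⟩ := ha
    obtain ⟨b, rfl⟩ := hb
    exact ⟨a + b, map_add _ _ _⟩
  | tmul x q =>
    obtain ⟨r, rfl⟩ := Ideal.Quotient.mk_surjective q
    refine ⟨r • x, ?_⟩
    show (r • x) ⊗ₜ[A] (1 : A ⧸ I) = x ⊗ₜ Ideal.Quotient.mk I r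
    rw [TensorProduct.smul_tmul]
    congr 1
    rw [← Ideal.Quotient.algebraMap_eq, Algebra.algebraMap_eq_smul_one]

lemma modI_eq_zero_iff (I : Ideal A) {X : Type u} [AddCommGroup X] [Module A X] (t : X) :
    modI I X t = 0 ↔ t ∈ I • (⊤ : Submodule A X) := by
  rw [← (TensorProduct.tensorQuotEquivQuotSMul X I).map_eq_zero_iff, ← Submodule.Quotient.mk_eq_zero]
  show TensorProduct.tensorQuotEquivQuotSMul X I (t ⊗ₜ Ideal.Quotient.mk I 1) = 0 ↔ _
  rw [TensorProduct.tensorQuotEquivQuotSMul_tmul_mk, one_smul]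

lemma rTensor_modI {I : Ideal A} {X Y : Type u} [AddCommGroup X] [Module A X] [AddCommGroup Y]
    [Module A Y] (d : X →ₗ[A] Y) (t : X) : d.rTensor (A ⧸ I) (modI I X t) = modI I Y (d t) := rfl

variable {ι : Type} {c : ComplexShape ι} (P : HomologicalComplex (ModuleCat.{u} A) c) {h i j : ι}

/-- Surjectivity of `T_i(A/I^(n+1)) → T_i(A/I)` for large `n` gives that of `T_i A → T_i (A/I)`. -/
lemma surjective_of_artinRees [IsNoetherianRing A] [Module.Finite A (P.X j)] (hh : c.prev i = h)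
    (hj : c.next i = j) (I : Ideal A)
    (H : ∃ n₀ : ℕ, ∀ n : ℕ, n₀ ≤ n → Function.Surjective ((CohIII.TFun P i).map (ModuleCat.ofHom
      (Ideal.Quotient.factorₐ A (Ideal.pow_le_self (I := I) (Nat.succ_ne_zero n))).toLinearMap :
        ModuleCat.of A (A ⧸ I ^ (n + 1)) ⟶ ModuleCat.of A (A ⧸ I)))) :
    Function.Surjective ((CohIII.TFun P i).map
      (ModuleCat.ofHom (Algebra.linearMap A (A ⧸ I)))) := by
  obtain ⟨n₀, H⟩ := H
  rw [TFun_map_surjective_iff P hh hj]
  intro y hy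
  obtain ⟨k, hk⟩ := Ideal.exists_pow_inf_eq_pow_smul I (LinearMap.range (P.d i j).hom)
  obtain ⟨x, w, hx, hxw⟩ := (TFun_map_surjective_iff P hh hj _).1 (H (max n₀ k) (le_max_left _ _)) y hy
  obtain ⟨u, rfl⟩ := modI_surjective (I ^ (max n₀ k + 1)) (P.X i) x
  obtain ⟨s, rfl⟩ := modI_surjective I (P.X h) w
  replace hx : modI (I ^ (max n₀ k + 1)) (P.X j) (P.d i j u) = 0 := hx
  rw [modI_eq_zero_iff] at hx
  have hmem : P.d i j u ∈ (I • (⊤ : Submodule A (P.X i))).map (P.d i j).hom := by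
    rw [Submodule.map_smul'', Submodule.map_top]
    have h1 : P.d i j u ∈ I ^ (max n₀ k + 1) • (⊤ : Submodule A (P.X j)) ⊓ LinearMap.range (P.d i j).hom :=
      ⟨hx, ⟨u, rfl⟩⟩
    rw [hk _ (by omega)] at h1
    exact Submodule.smul_mono (Ideal.pow_le_self (by omega)) inf_le_right h1
  obtain ⟨u', hu', hdu⟩ := hmem
  refine ⟨(u - u') ⊗ₜ (1 : A), modI I (P.X h) s, ?_, ?_⟩
  · change (P.d i j).hom (u - u') ⊗ₜ[A] (1 : A) = 0
    rw [map_sub, hdu]
    show ((P.d i j).hom u - (P.d i j).hom u) ⊗ₜ[A] (1 : A) = 0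
    rw [sub_self, TensorProduct.zero_tmul]
  · rw [← hxw]
    congr 1
    show modI I (P.X i) (u - u') = modI I (P.X i) u
    rw [map_sub, (modI_eq_zero_iff I u').2 hu', sub_zero]

end Groth.FlatCxBase
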