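import Groth.Agent.FlatCxBase.DRank

/-!
Flatness in short exact sequences; `T_j A`, `Q_j` and the image of the differential.
-/

universe u

open CategoryTheory CategoryTheory.Limits MonoidalCategory HomologicalComplex
open scoped TensorProduct ChangeOfRings

namespace Groth.FlatCxBase

section Modules

variable {A : Type u} [CommRing A] {X Y Z : Type u} [AddCommGroup X] [Module A X] [AddCommGroup Y]
  [Module A Y] [AddCommGroup Z] [Module A Z] {f : X →ₗ[A] Y} {g : Y →ₗ[A] Z}

lemma rTensor_injective_of_flat [Module.Flat A Z] (hf : Function.Injective f) (hg : Function.Surjective g)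
    (h : Function.Exact f g) (M : Type u) [AddCommGroup M] [Module A M] :
    Function.Injective (f.rTensor M) := by
  rw [← LinearMap.lTensor_inj_iff_rTensor_inj]
  exact LinearMap.lTensor_injective_of_exact_of_flat g hg f hf h M

lemma flat_of_exact_flat_right [Module.Flat A X] [Module.Flat A Z] (hf : Function.Injective f)
    (hg : Function.Surjective g) (h : Function.Exact f g) : Module.Flat A Y := by
  refine Module.Flat.iff_lTensor_preserves_injective_linearMap.2 fun M N _ _ _ _ φ hφ => ?_
  rw [injective_iff_map_eq_zero]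
  intro y hy
  have : g.rTensor M y = 0 := by
    apply Module.Flat.lTensor_preserves_injective_linearMap (M := Z) φ hφ
    rw [map_zero, lTensor_rTensor, hy, map_zero]
  obtain ⟨x, rfl⟩ := (rTensor_exact M h hg y).1 this
  rw [lTensor_rTensor] at hy
  have := (map_eq_zero_iff _ (rTensor_injective_of_flat hf hg h N)).1 hy
  rw [(map_eq_zero_iff _ (Module.Flat.lTensor_preserves_injective_linearMap φ hφ)).1 this, map_zero]

lemma flat_of_exact_flat_left [Module.Flat A Y] [Module.Flat A Z] (hf : Function.Injective f)
    (hg : Function.Surjective g) (h : Function.Exact f g) : Module.Flat A X := by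
  refine Module.Flat.iff_lTensor_preserves_injective_linearMap.2 fun M N _ _ _ _ φ hφ => ?_
  refine Function.Injective.of_comp (f := f.rTensor N) ?_
  rw [← LinearMap.coe_comp, LinearMap.rTensor_comp_lTensor, ← LinearMap.lTensor_comp_rTensor,
    LinearMap.coe_comp]
  exact (Module.Flat.lTensor_preserves_injective_linearMap φ hφ).comp (rTensor_injective_of_flat hf hg h M)

/-- Flatness of range and of `X` are related by the kernel. -/
lemma flat_of_flat_ker_range (φ : X →ₗ[A] Y) [Module.Flat A (LinearMap.ker φ)]
    [Module.Flat A (LinearMap.range φ)] : Module.Flat A X :=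
  flat_of_exact_flat_right (f := (LinearMap.ker φ).subtype) (g := φ.rangeRestrict) Subtype.val_injective
    φ.surjective_rangeRestrict (by rw [LinearMap.exact_iff, LinearMap.ker_rangeRestrict, Submodule.range_subtype])

lemma flat_ker_of_flat_range (φ : X →ₗ[A] Y) [Module.Flat A X]
    [Module.Flat A (LinearMap.range φ)] : Module.Flat A (LinearMap.ker φ) :=
  flat_of_exact_flat_left (f := (LinearMap.ker φ).subtype) (g := φ.rangeRestrict) Subtype.val_injective
    φ.surjective_rangeRestrict (by rw [LinearMap.exact_iff, LinearMap.ker_rangeRestrict, Submodule.range_subtype])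

lemma flat_range_of_flat_quot (φ : X →ₗ[A] Y) [Module.Flat A Y]
    [Module.Flat A (Y ⧸ LinearMap.range φ)] : Module.Flat A (LinearMap.range φ) :=
  flat_of_exact_flat_left (f := (LinearMap.range φ).subtype) (g := (LinearMap.range φ).mkQ)
    Subtype.val_injective (Submodule.mkQ_surjective _) (LinearMap.exact_subtype_mkQ _)

end Modules

section Chain

variable {A : Type u} [CommRing A] (P : ChainComplex (ModuleCat.{u} A) ℤ)

/-- `T_p(A) = ker (Q_p → P_{p-1})`. -/
noncomputable def TunitEquivKer (p : ℤ) :
    (CohIII.TFun P p).obj (ModuleCat.of A A) ≃ₗ[A] LinearMap.ker (dBarC P p) :=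
  (TunitIso P p).toLinearEquiv.trans (homologyEquivKer P (chain_prev p) (chain_next p))

/-- `H_p = ker (Q_p → P_{p-1})`. -/
noncomputable def homologyEquiv (p : ℤ) : P.homology p ≃ₗ[A] LinearMap.ker (dBarC P p) :=
  homologyEquivKer P (chain_prev p) (chain_next p)

variable [∀ i, Module.Flat A (P.X i)]

lemma flat_range_dBarC (p : ℤ) [Module.Flat A (Chain.Q P (p - 1))] :
    Module.Flat A (LinearMap.range (dBarC P p)) := by
  have : Module.Flat A (P.X (p - 1) ⧸ LinearMap.range (dBarC P p)) :=
    Module.Flat.of_linearEquiv (cokerDBarEquiv P p)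
  exact flat_range_of_flat_quot _

lemma flat_Q_of_flat_ker (p : ℤ) [Module.Flat A (Chain.Q P (p - 1))]
    [Module.Flat A (LinearMap.ker (dBarC P p))] : Module.Flat A (Chain.Q P p) := by
  have := flat_range_dBarC P p
  exact flat_of_flat_ker_range (dBarC P p)

lemma flat_Q_of_isZero (p : ℤ) (h : IsZero (P.X p)) : Module.Flat A (Chain.Q P p) := by
  have := ModuleCat.subsingleton_of_isZero h
  infer_instance

lemma flat_Q_upTo (i₀ p : ℤ) (hb : ∀ i < i₀, IsZero (P.X i))
    (h : ∀ q ≤ p, Module.Flat A (LinearMap.ker (dBarC P q))) : ∀ q ≤ p, Module.Flat A (Chain.Q P q) := by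
  suffices ∀ n : ℕ, ∀ q, q < i₀ + n → q ≤ p → Module.Flat A (Chain.Q P q) from
    fun q hq => this (q + 1 - i₀).toNat q (by omega) hq
  intro n
  induction n with
  | zero => exact fun q hq _ => flat_Q_of_isZero P q (hb q (by omega))
  | succ n ih =>
    intro q hq hqp
    by_cases hq' : q < i₀ + n
    · exact ih q hq' hqp
    · have := ih (q - 1) (by omega) (by omega)
      have := h q hqp
      exact flat_Q_of_flat_ker P q

end Chain

end Groth.FlatCxBase
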