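import Groth.Agent.FlatCxBase.Criteria
import Mathlib.CategoryTheory.Linear.LinearFunctor
import Mathlib.Algebra.Category.ModuleCat.Monoidal.Basic
import Mathlib.LinearAlgebra.DirectSum.Finsupp
import Mathlib.Algebra.Homology.Linear

/-!
Eilenberg-Watts: the comparison map `T(A) ⊗ M → T(M)` of a linear endofunctor of modules,
and its specialisation to `T_p`.
-/

universe u

open CategoryTheory CategoryTheory.Limits MonoidalCategory HomologicalComplex
open scoped TensorProduct

namespace Groth.FlatCxBase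

variable {A : Type u} [CommRing A]

section Watts

variable (T : ModuleCat.{u} A ⥤ ModuleCat.{u} A) [T.Additive] [T.Linear A]

/-- `y ⊗ x ↦ T(a ↦ a x) y`. -/
noncomputable abbrev watts (M : ModuleCat.{u} A) : T.obj (ModuleCat.of A A) ⊗[A] M →ₗ[A] T.obj M :=
  TensorProduct.lift (LinearMap.flip
        ((ModuleCat.homLinearEquiv (S := A)).toLinearMap ∘ₗ Functor.mapLinearMap A T ∘ₗ
          (ModuleCat.homLinearEquiv (S := A)).symm.toLinearMap ∘ₗ
            (LinearMap.ringLmapEquivSelf A A M).symm.toLinearMap))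

/-- `a ↦ a • x` as a morphism. -/
abbrev theta (M : ModuleCat.{u} A) (x : M) : ModuleCat.of A A ⟶ M :=
  ModuleCat.ofHom (LinearMap.toSpanSingleton A M x)

lemma watts_tmul (M : ModuleCat.{u} A) (y : T.obj (ModuleCat.of A A)) (x : M) :
    watts T M (y ⊗ₜ x) = T.map (theta M x) y := by
  rw [TensorProduct.lift.tmul]
  rfl

lemma watts_naturality {M N : ModuleCat.{u} A} (g : M ⟶ N) (z : T.obj (ModuleCat.of A A) ⊗[A] M) :
    T.map g (watts T M z) = watts T N (g.hom.lTensor _ z) := by
  induction z using TensorProduct.induction_on with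
  | zero => simp
  | add a b ha hb => simp only [map_add, ha, hb]
  | tmul y x =>
    rw [LinearMap.lTensor_tmul, watts_tmul, watts_tmul, ← ConcreteCategory.comp_apply, ← T.map_comp]
    congr 3
    ext
    simp

lemma watts_surjective_finsupp (κ : Type u)
    (hsum : ∀ x : T.obj (ModuleCat.of A (κ →₀ A)),
      x ∈ ⨆ i, LinearMap.range (T.map (ModuleCat.ofHom (Finsupp.lsingle i : A →ₗ[A] κ →₀ A))).hom) :
    Function.Surjective (watts T (ModuleCat.of A (κ →₀ A))) := by
  intro x
  rw [← LinearMap.mem_range]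
  refine SetLike.le_def.1 (iSup_le fun i => ?_) (hsum x)
  rintro _ ⟨y, rfl⟩
  refine ⟨y ⊗ₜ Finsupp.single i 1, ?_⟩
  rw [watts_tmul]
  congr 3
  ext
  simp

lemma watts_injective_finsupp (κ : Type u) :
    Function.Injective (watts T (ModuleCat.of A (κ →₀ A))) := by
  classical
  rw [injective_iff_map_eq_zero]
  intro z hz
  let e := TensorProduct.finsuppScalarRight A A (T.obj (ModuleCat.of A A)) κ
  suffices h : e z = 0 from e.map_eq_zero_iff.1 h
  ext i
  have key : ∀ z, T.map (ModuleCat.ofHom (Finsupp.lapply i : (κ →₀ A) →ₗ[A] A))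
      (watts T (ModuleCat.of A (κ →₀ A)) z) = e z i := by
    intro z
    induction z using TensorProduct.induction_on with
    | zero => simp
    | add a b ha hb => simp only [map_add, ha, hb, Finsupp.add_apply]
    | tmul y f =>
      rw [watts_tmul, ← ConcreteCategory.comp_apply, ← T.map_comp]
      have : theta (ModuleCat.of A (κ →₀ A)) f ≫ ModuleCat.ofHom (Finsupp.lapply i : (κ →₀ A) →ₗ[A] A) =
          (f i) • 𝟙 (ModuleCat.of A A) := by
        ext; simp
      rw [this, Functor.map_smul, CategoryTheory.Functor.map_id]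
      simp [e, TensorProduct.finsuppScalarRight_apply_tmul_apply]
  rw [← key z, hz, map_zero, Finsupp.coe_zero, Pi.zero_apply]

/-- `T(κ →₀ A)` is spanned by the images of `T(A)`, for every `κ`. -/
def IsFinitary : Prop :=
  ∀ (κ : Type u) (x : T.obj (ModuleCat.of A (κ →₀ A))),
    x ∈ ⨆ i, LinearMap.range (T.map (ModuleCat.ofHom (Finsupp.lsingle i : A →ₗ[A] κ →₀ A))).hom

variable {T}

lemma IsFinitary.watts_bijective_finsupp (h : IsFinitary T) (κ : Type u) :
    Function.Bijective (watts T (ModuleCat.of A (κ →₀ A))) :=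
  ⟨watts_injective_finsupp T κ, watts_surjective_finsupp T κ (h κ)⟩

lemma IsFinitary.watts_bijective_free (h : IsFinitary T) (L : ModuleCat.{u} A) [Module.Free A L] :
    Function.Bijective (watts T L) := by
  let e : L ≅ ModuleCat.of A (Module.Free.ChooseBasisIndex A L →₀ A) :=
    (Module.Free.chooseBasis A L).repr.toModuleIso
  let e' := LinearEquiv.lTensor (T.obj (ModuleCat.of A A)) e.toLinearEquiv
  have h1 : ∀ z, (T.mapIso e).toLinearEquiv (watts T L z) = watts T _ (e' z) :=
    watts_naturality T e.hom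
  refine (Function.Bijective.of_comp_iff' (T.mapIso e).toLinearEquiv.bijective _).1 ?_
  have h2 : ⇑(T.mapIso e).toLinearEquiv ∘ ⇑(watts T L) = ⇑(watts T _) ∘ ⇑e' := funext h1
  rw [h2]
  exact (h.watts_bijective_finsupp _).comp e'.bijective

/-- Half exactness. -/
def IsHalfExact (T : ModuleCat.{u} A ⥤ ModuleCat.{u} A) [T.Additive] : Prop :=
  ∀ S : ShortComplex (ModuleCat.{u} A), S.ShortExact → (S.map T).Exact

lemma IsFinitary.watts_surjective (h : IsFinitary T) (hepi : T.PreservesEpimorphisms)
    (M : ModuleCat.{u} A) : Function.Surjective (watts T M) := by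
  intro x
  let g : ModuleCat.of A (M →₀ A) ⟶ M := ModuleCat.ofHom (Finsupp.linearCombination A id)
  obtain ⟨y, rfl⟩ := (preservesEpi_iff T).1 hepi g (Finsupp.linearCombination_id_surjective A M) x
  obtain ⟨z, rfl⟩ := (h.watts_bijective_finsupp M).2 y
  exact ⟨_, (watts_naturality T g z).symm⟩

lemma IsFinitary.watts_bijective (h : IsFinitary T) (hepi : T.PreservesEpimorphisms)
    (hhalf : IsHalfExact T) (M : ModuleCat.{u} A) : Function.Bijective (watts T M) := by
  refine ⟨?_, h.watts_surjective hepi M⟩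
  let π : (M →₀ A) →ₗ[A] M := Finsupp.linearCombination A id
  have hπ : Function.Surjective π := Finsupp.linearCombination_id_surjective A M
  have hS := LinearMap.shortExact_shortComplexKer hπ
  rw [injective_iff_map_eq_zero]
  intro z hz
  obtain ⟨z, rfl⟩ := LinearMap.lTensor_surjective _ hπ z
  replace hz : T.map (ModuleCat.ofHom π) (watts T _ z) = 0 :=
    (watts_naturality T (ModuleCat.ofHom π) z).trans hz
  obtain ⟨w, hw⟩ := ((ShortComplex.moduleCat_exact_iff _).1 (hhalf _ hS)) _ hz
  obtain ⟨v, rfl⟩ := h.watts_surjective hepi _ w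
  replace hw := ((watts_naturality T _ v).symm.trans hw)
  rw [← (h.watts_bijective_finsupp _).1 hw]
  exact (lTensor_exact _ (LinearMap.exact_subtype_ker_map π) hπ).apply_apply_eq_zero v

/-- The comparison as a natural isomorphism. -/
noncomputable def wattsIso (hb : ∀ M, Function.Bijective (watts T M)) :
    tensorLeft (T.obj (ModuleCat.of A A)) ≅ T :=
  NatIso.ofComponents (fun M => (LinearEquiv.ofBijective (watts T M) (hb M)).toModuleIso)
    (fun {M N} g => by
      ext1
      exact LinearMap.ext fun z => (watts_naturality T g z).symm)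

lemma IsFinitary.nonempty_iso_tensorLeft (h : IsFinitary T) (hepi : T.PreservesEpimorphisms)
    (hhalf : IsHalfExact T) : Nonempty (T ≅ tensorLeft (T.obj (ModuleCat.of A A))) :=
  ⟨(wattsIso (h.watts_bijective hepi hhalf)).symm⟩

end Watts

lemma preservesEpi_tensorLeft (N : ModuleCat.{u} A) : (tensorLeft N).PreservesEpimorphisms :=
  (preservesEpi_iff _).2 fun _ hg => LinearMap.lTensor_surjective N hg

lemma preservesMono_tensorLeft_iff (N : ModuleCat.{u} A) :
    (tensorLeft N).PreservesMonomorphisms ↔ Module.Flat A N := by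
  rw [preservesMono_iff]
  exact ⟨fun h => Module.Flat.iff_lTensor_preserves_injective_linearMap.2
      fun M K _ _ _ _ g hg => h (ModuleCat.ofHom g) hg,
    fun _ M K g hg => Module.Flat.lTensor_preserves_injective_linearMap g.hom hg⟩

section TFun

variable {ι : Type} {c : ComplexShape ι} (P : HomologicalComplex (ModuleCat.{u} A) c) (j : ι)

instance additive_TFun : (CohIII.TFun P j).Additive where
  map_add {M N f g} := by
    ext1
    refine LinearMap.ext fun a => ?_
    obtain ⟨x, rfl⟩ := clsT_surjective P (j := j) rfl M a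
    show _ = ((CohIII.TFun P j).map f).hom _ + ((CohIII.TFun P j).map g).hom _
    rw [TFun_map_clsT P rfl M (f + g) x, TFun_map_clsT P rfl M f x, TFun_map_clsT P rfl M g x, ← map_add]
    refine congrArg _ (Subtype.ext ?_)
    exact LinearMap.congr_fun (LinearMap.lTensor_add (P.X j) f.hom g.hom) x.1

instance linear_TFun : Functor.Linear A (CohIII.TFun P j) where
  map_smul {M N} f r := by
    ext1
    refine LinearMap.ext fun a => ?_
    obtain ⟨x, rfl⟩ := clsT_surjective P (j := j) rfl M a
    show _ = r • ((CohIII.TFun P j).map f).hom _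
    rw [TFun_map_clsT P rfl M (r • f) x, TFun_map_clsT P rfl M f x, ← map_smul]
    refine congrArg _ (Subtype.ext ?_)
    exact LinearMap.congr_fun (LinearMap.lTensor_smul (M := P.X j) r f.hom) x.1

lemma exists_sum_lTensor_single {X : Type u} [AddCommGroup X] [Module A X] {κ : Type u}
    (x : X ⊗[A] (κ →₀ A)) : ∃ s : Finset κ,
      x = ∑ i ∈ s, ((Finsupp.lsingle i : A →ₗ[A] κ →₀ A).comp (Finsupp.lapply i)).lTensor X x := by
  classical
  let e := TensorProduct.finsuppScalarRight A A X κ
  refine ⟨(e x).support, e.injective ?_⟩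
  have key : ∀ (i : κ) (z : X ⊗[A] (κ →₀ A)),
      e (((Finsupp.lsingle i : A →ₗ[A] κ →₀ A).comp (Finsupp.lapply i)).lTensor X z) =
        Finsupp.single i (e z i) := by
    intro i z
    induction z using TensorProduct.induction_on with
    | zero => simp
    | add a b ha hb => simp only [map_add, ha, hb, Finsupp.add_apply, Finsupp.single_add]
    | tmul y f =>
      ext k
      by_cases hk : i = k
      · subst hk; simp [e, TensorProduct.finsuppScalarRight_apply_tmul_apply]
      · simp [e, TensorProduct.finsuppScalarRight_apply_tmul_apply, hk]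
  rw [map_sum]
  simp only [key]
  exact ((e x).sum_single).symm

lemma isFinitary_TFun : IsFinitary (CohIII.TFun P j) := by
  intro κ a
  obtain ⟨x, rfl⟩ := clsT_surjective P (j := j) rfl _ a
  obtain ⟨s, hs⟩ := exists_sum_lTensor_single x.1
  let e : κ → (ModuleCat.of A (κ →₀ A) ⟶ ModuleCat.of A (κ →₀ A)) := fun i =>
    ModuleCat.ofHom (Finsupp.lapply i : (κ →₀ A) →ₗ[A] A) ≫
      ModuleCat.ofHom (Finsupp.lsingle i : A →ₗ[A] κ →₀ A)
  have hx : clsT P rfl _ x = ∑ i ∈ s, (CohIII.TFun P j).map (e i) (clsT P rfl _ x) := by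
    refine Eq.trans ?_ (Finset.sum_congr rfl fun i _ => (TFun_map_clsT P rfl _ (e i) x).symm)
    rw [← map_sum]
    refine congrArg _ (Subtype.ext ?_)
    rw [Submodule.coe_sum]
    exact hs
  rw [hx]
  refine Submodule.sum_mem _ fun i _ => ?_
  apply Submodule.mem_iSup_of_mem i
  rw [(CohIII.TFun P j).map_comp]
  exact ⟨_, rfl⟩

variable [∀ i, Module.Flat A (P.X i)] {i k : ι}

lemma isHalfExact_TFun (hi : c.prev j = i) (hk : c.next j = k) :
    IsHalfExact (CohIII.TFun P j) := by
  intro S hS
  rw [ShortComplex.moduleCat_exact_iff]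
  intro a ha
  change (CohIII.TFun P j).map S.g a = 0 at ha
  show ∃ b, (CohIII.TFun P j).map S.f b = a
  obtain ⟨⟨x, hx⟩, rfl⟩ := clsT_surjective P hk _ a
  rw [TFun_map_clsT] at ha
  obtain ⟨w', hw'⟩ := (clsT_eq_zero_iff P hk _ hi _).1 ha
  have hex : Function.Exact S.f.hom S.g.hom :=
    (ShortComplex.ShortExact.moduleCat_exact_iff_function_exact S).1 hS.exact
  have hg : Function.Surjective S.g.hom := hS.moduleCat_surjective_g
  obtain ⟨w, rfl⟩ := LinearMap.lTensor_surjective (P.X i) hg w'
  have hu : S.g.hom.lTensor (P.X j) (x - (P.d i j).hom.rTensor S.X₂ w) = 0 := by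
    rw [map_sub, lTensor_rTensor, sub_eq_zero]
    exact hw'.symm
  obtain ⟨u, hu⟩ := (lTensor_exact (P.X j) hex hg _).1 hu
  have hdu : (P.d j k).hom.rTensor S.X₁ u = 0 := by
    apply Module.Flat.lTensor_preserves_injective_linearMap (M := P.X k) S.f.hom
      hS.moduleCat_injective_f
    rw [map_zero, lTensor_rTensor, hu, map_sub, LinearMap.mem_ker.1 hx, rTensor_d_d, sub_zero]
  refine ⟨clsT P hk _ ⟨u, hdu⟩, ?_⟩
  rw [TFun_map_clsT, ← sub_eq_zero, ← map_sub]
  refine (clsT_eq_zero_iff P hk _ hi _).2 ⟨-w, ?_⟩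
  show (P.d i j).hom.rTensor S.X₂ (-w) = S.f.hom.lTensor (P.X j) u - x
  rw [hu, map_neg]
  abel

lemma nonempty_TFun_iso_tensorLeft (hi : c.prev j = i) (hk : c.next j = k)
    (hepi : (CohIII.TFun P j).PreservesEpimorphisms) :
    Nonempty (CohIII.TFun P j ≅ tensorLeft ((CohIII.TFun P j).obj (ModuleCat.of A A))) :=
  (isFinitary_TFun P j).nonempty_iso_tensorLeft hepi (isHalfExact_TFun P j hi hk)

lemma preservesEpi_iff_iso_tensorLeft (hi : c.prev j = i) (hk : c.next j = k) :
    (CohIII.TFun P j).PreservesEpimorphisms ↔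
      ∃ N : ModuleCat.{u} A, Nonempty (CohIII.TFun P j ≅ tensorLeft N) := by
  refine ⟨fun h => ⟨_, nonempty_TFun_iso_tensorLeft P j hi hk h⟩, fun ⟨N, ⟨e⟩⟩ => ?_⟩
  have := preservesEpi_tensorLeft N
  exact Functor.PreservesEpimorphisms.of_iso e.symm

lemma exact_iff_epi_and_flat (hi : c.prev j = i) (hk : c.next j = k) :
    ((CohIII.TFun P j).PreservesMonomorphisms ∧ (CohIII.TFun P j).PreservesEpimorphisms) ↔
      (CohIII.TFun P j).PreservesEpimorphisms ∧
        Module.Flat A ((CohIII.TFun P j).obj (ModuleCat.of A A)) := by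
  constructor
  · rintro ⟨hm, he⟩
    refine ⟨he, ?_⟩
    obtain ⟨e⟩ := nonempty_TFun_iso_tensorLeft P j hi hk he
    exact (preservesMono_tensorLeft_iff _).1 (Functor.PreservesMonomorphisms.of_iso e)
  · rintro ⟨he, hf⟩
    refine ⟨?_, he⟩
    obtain ⟨e⟩ := nonempty_TFun_iso_tensorLeft P j hi hk he
    have := (preservesMono_tensorLeft_iff _).2 hf
    exact Functor.PreservesMonomorphisms.of_iso e.symm

omit [∀ i, Module.Flat A (P.X i)] in
/-- `T_j(A) ≅ H_j(P)`. -/
noncomputable def TunitIso : CohIII.T P j (ModuleCat.of A A) ≅ P.homology j :=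
  (homologyFunctor _ c j).mapIso
    ((NatIso.mapHomologicalComplex (MonoidalCategory.rightUnitorNatIso (ModuleCat.{u} A)) c).app P ≪≫
      (Functor.mapHomologicalComplexIdIso (ModuleCat.{u} A) c).app P)

omit [∀ i, Module.Flat A (P.X i)] in
lemma finite_T [IsNoetherianRing A] (M : ModuleCat.{u} A) [Module.Finite A M]
    [Module.Finite A (P.X j)] : Module.Finite A (CohIII.T P j M) := by
  have : Module.Finite A ((CohIII.tensorObj P M).X j) :=
    inferInstanceAs (Module.Finite A (P.X j ⊗[A] M))
  exact Module.Finite.of_surjective _ (cls_surjective (K := CohIII.tensorObj P M) j)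

end TFun

end Groth.FlatCxBase
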