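import Groth.Agent.FlatCxBase.Watts

/-!
The criteria for chain complexes indexed by `ℤ`.
-/

universe u

open CategoryTheory CategoryTheory.Limits MonoidalCategory HomologicalComplex
open scoped TensorProduct

namespace Groth.FlatCxBase.Chain

variable {A : Type u} [CommRing A] (P : ChainComplex (ModuleCat.{u} A) ℤ)

/-- `P_p / im(d_{p+1})`. -/
abbrev Q (p : ℤ) : Type u := Coker P (p + 1) p

/-- It is the opcycles. -/
noncomputable def opcyclesEquiv (p : ℤ) : Q P p ≃ₗ[A] P.opcycles p :=
  opcyclesEquivQuot P (chain_prev p)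

lemma flat_opcycles_iff (p : ℤ) : Module.Flat A (P.opcycles p) ↔ Module.Flat A (Q P p) :=
  Module.Flat.equiv_iff (opcyclesEquiv P p).symm

section

variable [∀ i, Module.Flat A (P.X i)] (p : ℤ)

lemma mono_iff : (CohIII.TFun P p).PreservesMonomorphisms ↔ Module.Flat A (Q P p) :=
  preservesMono_iff_flat P (chain_prev p) (chain_next p)

lemma epi_iff {q : ℤ} (hq : q + 1 = p) :
    (CohIII.TFun P p).PreservesEpimorphisms ↔ Module.Flat A (Q P q) := by
  subst hq
  exact preservesEpi_iff_flat P (chain_prev _) ((chain_next _).trans (by simp))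

lemma epi_iff_mono {q : ℤ} (hq : q + 1 = p) :
    (CohIII.TFun P p).PreservesEpimorphisms ↔ (CohIII.TFun P q).PreservesMonomorphisms := by
  rw [epi_iff P p hq, mono_iff]

lemma isHalfExact : IsHalfExact (CohIII.TFun P p) :=
  isHalfExact_TFun P p (chain_prev p) (chain_next p)

lemma nonempty_iso_tensorLeft (h : (CohIII.TFun P p).PreservesEpimorphisms) :
    Nonempty (CohIII.TFun P p ≅ tensorLeft ((CohIII.TFun P p).obj (ModuleCat.of A A))) :=
  nonempty_TFun_iso_tensorLeft P p (chain_prev p) (chain_next p) h

lemma exact_iff : ((CohIII.TFun P p).PreservesMonomorphisms ∧ (CohIII.TFun P p).PreservesEpimorphisms) ↔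
    (CohIII.TFun P p).PreservesEpimorphisms ∧
      Module.Flat A ((CohIII.TFun P p).obj (ModuleCat.of A A)) :=
  exact_iff_epi_and_flat P p (chain_prev p) (chain_next p)

variable [IsLocalRing A] [∀ i, Module.Finite A (P.X i)]

lemma epi_iff_surjective :
    (CohIII.TFun P p).PreservesEpimorphisms ↔
      Function.Surjective ((CohIII.TFun P p).map
        (ModuleCat.ofHom (Algebra.linearMap A (IsLocalRing.ResidueField A)))) :=
  preservesEpi_iff_surjective_residueField P (chain_prev p) (chain_next p)

lemma isZero_T (h : IsZero (CohIII.T P p (ModuleCat.of A (IsLocalRing.ResidueField A))))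
    (M : ModuleCat.{u} A) : IsZero (CohIII.T P p M) :=
  isZero_of_isZero_residueField P (chain_prev p) (chain_next p) h M

end

end Groth.FlatCxBase.Chain
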