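import Groth.Agent.FlatCxBase.Fibre

/-!
The rank function `dRank` of a chain complex through fibre dimensions of its cokernels.
-/

universe u

open CategoryTheory CategoryTheory.Limits MonoidalCategory HomologicalComplex
open scoped TensorProduct ChangeOfRings

namespace Groth.FlatCxBase

variable {A : Type u} [CommRing A] (P : ChainComplex (ModuleCat.{u} A) ℤ)

/-- The differential `P_p / im → P_{p-1}`. -/
noncomputable abbrev dBarC (p : ℤ) : Chain.Q P p →ₗ[A] P.X (p - 1) := dBar P (p + 1) p (p - 1)

lemma range_dBarC (p : ℤ) : LinearMap.range (dBarC P p) = LinearMap.range (P.d p (p - 1)).hom := by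
  rw [← dBar_comp P (p + 1) p (p - 1), LinearMap.range_comp_of_range_eq_top _ (Submodule.range_mkQ _)]

/-- `P_{p-1} / im (dBar) = Q_{p-1}`. -/
noncomputable def cokerDBarEquiv (p : ℤ) :
    (P.X (p - 1) ⧸ LinearMap.range (dBarC P p)) ≃ₗ[A] Chain.Q P (p - 1) :=
  Submodule.quotEquivOfEq _ _ ((range_dBarC P p).trans (by rw [show p - 1 + 1 = p by ring]))

lemma dRank_eq_finrank_ker (p : ℤ) (x : PrimeSpectrum A) :
    CohIII.dRank P p x =
      Module.finrank x.asIdeal.ResidueField
        (LinearMap.ker ((dBarC P p).baseChange x.asIdeal.ResidueField)) :=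
  (homologyBCEquiv x.asIdeal.ResidueField P (chain_prev p) (chain_next p)).finrank_eq

section Finite

variable [∀ i, Module.Finite A (P.X i)]

lemma dRank_add (p : ℤ) (x : PrimeSpectrum A) :
    CohIII.dRank P p x + fdim (P.X (p - 1)) x = fdim (Chain.Q P p) x + fdim (Chain.Q P (p - 1)) x := by
  rw [dRank_eq_finrank_ker]
  set K := x.asIdeal.ResidueField
  set f := (dBarC P p).baseChange K
  have h1 := f.finrank_range_add_finrank_ker
  have h2 : Module.finrank K ((K ⊗[A] P.X (p - 1)) ⧸ LinearMap.range f) = fdim (Chain.Q P (p - 1)) x := by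
    rw [← fdim_congr _ (cokerDBarEquiv P p) x]
    let π := (LinearMap.range (dBarC P p)).mkQ.baseChange K
    have hπ : Function.Surjective π :=
      LinearMap.baseChange_surjective (R := A) K (Submodule.mkQ_surjective _)
    have hex : LinearMap.range f = LinearMap.ker π := by
      ext y
      exact (lTensor_exact K (LinearMap.exact_map_mkQ_range (dBarC P p)) (Submodule.mkQ_surjective _) y).symm
    exact ((Submodule.quotEquivOfEq _ _ hex).trans (π.quotKerEquivOfSurjective hπ)).finrank_eq
  have h3 := (LinearMap.range f).finrank_quotient_add_finrank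
  rw [h2] at h3
  change Module.finrank K (LinearMap.ker f) + Module.finrank K (K ⊗[A] P.X (p - 1)) = _
  change Module.finrank K (LinearMap.range f) + Module.finrank K (LinearMap.ker f) = fdim (Chain.Q P p) x at h1
  omega

end Finite

section Noetherian

variable [IsNoetherianRing A] [∀ i, Module.Finite A (P.X i)] [∀ i, Module.Flat A (P.X i)]

instance finitePresentation_coker {ι : Type} {c : ComplexShape ι}
    (P : HomologicalComplex (ModuleCat.{u} A) c) [∀ i, Module.Finite A (P.X i)] (i j : ι) :
    Module.FinitePresentation A (Coker P i j) :=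
  Module.finitePresentation_of_finite A _

lemma isLocallyConstant_fdim_X (i : ℤ) : IsLocallyConstant (fdim (A := A) (P.X i)) := by
  have := Module.finitePresentation_of_finite A (P.X i)
  exact isLocallyConstant_fdim _

lemma eventually_dRank_le (p : ℤ) (x : PrimeSpectrum A) :
    ∀ᶠ z in nhds x, CohIII.dRank P p z ≤ CohIII.dRank P p x := by
  filter_upwards [eventually_fdim_le (Chain.Q P p) x, eventually_fdim_le (Chain.Q P (p - 1)) x,
    (isLocallyConstant_fdim_X P (p - 1)).eventually_eq x] with z h1 h2 h3
  have := dRank_add P p z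
  have := dRank_add P p x
  omega

lemma upperSemicontinuous_dRank (p : ℤ) : UpperSemicontinuous (CohIII.dRank P p) :=
  fun x _ hy => (eventually_dRank_le P p x).mono fun _ hz => lt_of_le_of_lt hz hy

/-- `dRank` is locally constant near `x` iff both cokernels have locally constant fibre dimension. -/
lemma eventually_dRank_eq_iff (p : ℤ) (x : PrimeSpectrum A) :
    (∀ᶠ z in nhds x, CohIII.dRank P p z = CohIII.dRank P p x) ↔
      (∀ᶠ z in nhds x, fdim (Chain.Q P p) z = fdim (Chain.Q P p) x) ∧
        ∀ᶠ z in nhds x, fdim (Chain.Q P (p - 1)) z = fdim (Chain.Q P (p - 1)) x := by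
  constructor
  · intro h
    refine Filter.eventually_and.1 ?_
    filter_upwards [h, eventually_fdim_le (Chain.Q P p) x, eventually_fdim_le (Chain.Q P (p - 1)) x,
      (isLocallyConstant_fdim_X P (p - 1)).eventually_eq x] with z h0 h1 h2 h3
    have := dRank_add P p z
    have := dRank_add P p x
    omega
  · rintro ⟨h1, h2⟩
    filter_upwards [h1, h2, (isLocallyConstant_fdim_X P (p - 1)).eventually_eq x] with z h1 h2 h3
    have := dRank_add P p z
    have := dRank_add P p x
    omega

lemma dRank_specialization {x z : PrimeSpectrum A} (h : z ≤ x) (p : ℤ) :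
    CohIII.dRank P p z = CohIII.dRank P p x ↔
      fdim (Chain.Q P p) z = fdim (Chain.Q P p) x ∧
        fdim (Chain.Q P (p - 1)) z = fdim (Chain.Q P (p - 1)) x := by
  have h1 := fdim_le_of_le (Chain.Q P p) h
  have h2 := fdim_le_of_le (Chain.Q P (p - 1)) h
  have h3 : fdim (P.X (p - 1)) z = fdim (P.X (p - 1)) x :=
    ((PrimeSpectrum.le_iff_specializes z x).1 h).pure_le_nhds
      ((isLocallyConstant_fdim_X P (p - 1)).eventually_eq x)
  have := dRank_add P p z
  have := dRank_add P p x
  constructor
  · intro; omega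
  · intro; omega

lemma exact_iff_flat (p : ℤ) :
    ((CohIII.TFun P p).PreservesMonomorphisms ∧ (CohIII.TFun P p).PreservesEpimorphisms) ↔
      Module.Flat A (Chain.Q P p) ∧ Module.Flat A (Chain.Q P (p - 1)) := by
  rw [Chain.mono_iff, Chain.epi_iff P p (show p - 1 + 1 = p by ring)]

lemma isLocallyConstant_dRank_of_exact (p : ℤ)
    (h : (CohIII.TFun P p).PreservesMonomorphisms ∧ (CohIII.TFun P p).PreservesEpimorphisms) :
    IsLocallyConstant (CohIII.dRank P p) := by
  obtain ⟨h1, h2⟩ := (exact_iff_flat P p).1 h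
  rw [IsLocallyConstant.iff_eventually_eq]
  intro x
  rw [eventually_dRank_eq_iff]
  exact ⟨(isLocallyConstant_fdim _).eventually_eq x, (isLocallyConstant_fdim _).eventually_eq x⟩

lemma exact_of_fdim [IsReduced A] (p : ℤ)
    (h : ∀ x : PrimeSpectrum A, x.asIdeal.IsMaximal → ∀ z ≤ x,
      CohIII.dRank P p z = CohIII.dRank P p x) :
    (CohIII.TFun P p).PreservesMonomorphisms ∧ (CohIII.TFun P p).PreservesEpimorphisms :=
  (exact_iff_flat P p).2
    ⟨flat_of_fdim_eq _ fun x hx z hz => ((dRank_specialization P hz p).1 (h x hx z hz)).1,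
      flat_of_fdim_eq _ fun x hx z hz => ((dRank_specialization P hz p).1 (h x hx z hz)).2⟩

end Noetherian

end Groth.FlatCxBase
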