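import Groth.Agent.FlatCxBase.FlatAlg
import Groth.Agent.FlatCxBase.RankBC
import Mathlib.Algebra.Homology.HomologySequence
import Mathlib.Algebra.Homology.HomologicalComplexAbelian
import Mathlib.RingTheory.Spectrum.Prime.FreeLocus
import Mathlib.RingTheory.LocalProperties.Reduced
import Mathlib.RingTheory.Localization.BaseChange
import Mathlib.RingTheory.KrullDimension.Zero
import Mathlib.RingTheory.Spectrum.Prime.Topology

/-!
Bounded below flat complexes with finite homology: finiteness, generic exactness, rank functions.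
-/

universe u

open CategoryTheory CategoryTheory.Limits MonoidalCategory HomologicalComplex
open scoped TensorProduct ChangeOfRings

namespace Groth.FlatCxBase

section Base

variable {A : Type u} [CommRing A] (B : Type u) [CommRing B] [Algebra A B]

/-- Kernels commute with flat base change. -/
noncomputable def kerFlatBCEquiv [Module.Flat A B] {X Y : Type u} [AddCommGroup X] [Module A X]
    [AddCommGroup Y] [Module A Y] (f : X →ₗ[A] Y) :
    B ⊗[A] LinearMap.ker f ≃ₗ[B] LinearMap.ker (f.baseChange B) :=
  LinearEquiv.ofBijective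
    (((LinearMap.ker f).subtype.baseChange B).codRestrict _ fun z =>
      LinearMap.mem_ker.2 <| by
        rw [← LinearMap.comp_apply, ← LinearMap.baseChange_comp,
          (LinearMap.exact_subtype_ker_map f).linearMap_comp_eq_zero]
        simp)
    (by
      refine ⟨fun z w h => Module.Flat.lTensor_preserves_injective_linearMap (M := B) _
        Subtype.val_injective (congrArg Subtype.val h), ?_⟩
      rintro ⟨y, hy⟩
      obtain ⟨z, hz⟩ := (Module.Flat.lTensor_exact B (LinearMap.exact_subtype_ker_map f) y).1 hy
      exact ⟨z, Subtype.ext hz⟩)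

variable (P : ChainComplex (ModuleCat.{u} A) ℤ) (p : ℤ)

/-- Homology commutes with flat base change. -/
noncomputable def homologyFlatBCEquiv [Module.Flat A B] :
    (CohIII.bcCx (algebraMap A B) P).homology p ≃ₗ[B] B ⊗[A] LinearMap.ker (dBarC P p) :=
  (homologyBCEquiv B P (chain_prev p) (chain_next p)).trans (kerFlatBCEquiv B (dBarC P p)).symm

lemma flat_ker_bc_of_flat [Module.Flat A B] [Module.Flat B (B ⊗[A] LinearMap.ker (dBarC P p))] :
    Module.Flat B (LinearMap.ker (dBarC (CohIII.bcCx (algebraMap A B) P) p)) :=
  Module.Flat.of_linearEquiv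
    ((homologyEquiv (CohIII.bcCx (algebraMap A B) P) p).symm.trans (homologyFlatBCEquiv B P p))

/-- The rank function commutes with base change. -/
lemma dRank_bc (x' : PrimeSpectrum B) :
    CohIII.dRank (CohIII.bcCx (algebraMap A B) P) p x' =
      CohIII.dRank P p (PrimeSpectrum.comap (algebraMap A B) x') := by
  let x := PrimeSpectrum.comap (algebraMap A B) x'
  let g := Ideal.ResidueField.map x.asIdeal x'.asIdeal (algebraMap A B) rfl
  have hcomp : (algebraMap B x'.asIdeal.ResidueField).comp (algebraMap A B) =
      g.comp (algebraMap A x.asIdeal.ResidueField) :=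
    RingHom.ext fun r => (Ideal.ResidueField.map_algebraMap x.asIdeal x'.asIdeal (algebraMap A B) rfl r).symm
  refine Eq.trans ?_ (finrank_homology_bc P (algebraMap A x.asIdeal.ResidueField) g p)
  unfold CohIII.dRank
  refine (((HomologicalComplex.homologyFunctor _ _ p).mapIso
    (bcCompIso P (algebraMap A B) (algebraMap B x'.asIdeal.ResidueField))).toLinearEquiv.finrank_eq).trans ?_
  exact congrArg (fun φ => Module.finrank x'.asIdeal.ResidueField ((CohIII.bcCx φ P).homology p)) hcomp

end Base

section Finite

variable {A : Type u} [CommRing A] (P : ChainComplex (ModuleCat.{u} A) ℤ) [∀ i, Module.Flat A (P.X i)]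

lemma finite_T_pi (p : ℤ) [Module.Finite A (CohIII.T P p (ModuleCat.of A A))] (κ : Type u) [Finite κ] :
    Module.Finite A (CohIII.T P p (ModuleCat.of A (κ →₀ A))) := by
  have : Module.Finite A ((CohIII.TFun P p).obj (ModuleCat.of A A)) := ‹_›
  exact Module.Finite.equiv
    (LinearEquiv.ofBijective _ ((isFinitary_TFun P p).watts_bijective_finsupp κ))

/-- Finite homology of a bounded below flat complex stays finite after tensoring with a finite module. -/
lemma finite_T_of_finite [IsNoetherianRing A] (i₀ : ℤ) (hb : ∀ i < i₀, IsZero (P.X i))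
    (hfg : ∀ n : ℤ, Module.Finite A (CohIII.T P n (ModuleCat.of A A))) :
    ∀ (q : ℤ) (M : ModuleCat.{u} A), Module.Finite A M → Module.Finite A (CohIII.T P q M) := by
  suffices ∀ (n : ℕ) (q : ℤ), q < i₀ + n → ∀ M : ModuleCat.{u} A, Module.Finite A M →
      Module.Finite A (CohIII.T P q M) from fun q => this (q + 1 - i₀).toNat q (by omega)
  intro n
  induction n with
  | zero =>
    intro q hq M _
    have := ModuleCat.subsingleton_of_isZero (hb q (by omega))
    have : Subsingleton ((CohIII.tensorObj P M).X q) := inferInstanceAs (Subsingleton (P.X q ⊗[A] M))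
    exact Module.Finite.of_surjective _ (cls_surjective (K := CohIII.tensorObj P M) q)
  | succ n ih =>
    intro q hq M hM
    obtain ⟨m, φ, hφ⟩ := Module.Finite.exists_fin' A M
    let e : (ULift.{u} (Fin m) →₀ A) ≃ₗ[A] (Fin m → A) :=
      (Finsupp.domLCongr Equiv.ulift).trans (Finsupp.linearEquivFunOnFinite A A (Fin m))
    let π : ModuleCat.of A (ULift.{u} (Fin m) →₀ A) ⟶ M := ModuleCat.ofHom (φ.comp e.toLinearMap)
    have hπ : Function.Surjective π.hom := hφ.comp e.surjective
    let K : ModuleCat.{u} A := ModuleCat.of A (LinearMap.ker π.hom)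
    let ι : K ⟶ ModuleCat.of A (ULift.{u} (Fin m) →₀ A) := ModuleCat.ofHom (LinearMap.ker π.hom).subtype
    have : Module.Finite A K := Module.Finite.of_fg (IsNoetherian.noetherian _)
    have hex : Function.Exact ι.hom π.hom := LinearMap.exact_subtype_ker_map π.hom
    let S : ShortComplex (ChainComplex (ModuleCat.{u} A) ℤ) :=
      ShortComplex.mk (CohIII.tensorMap P ι) (CohIII.tensorMap P π) (by
        refine HomologicalComplex.hom_ext _ _ fun i => ?_
        ext1
        exact (lTensor_exact (P.X i) hex hπ).linearMap_comp_eq_zero)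
    have hS : S.ShortExact := HomologicalComplex.shortExact_of_degreewise_shortExact S fun i =>
      { exact := (ShortComplex.ShortExact.moduleCat_exact_iff_function_exact _).2
          (lTensor_exact (P.X i) hex hπ)
        mono_f := (ModuleCat.mono_iff_injective _).2
          (Module.Flat.lTensor_preserves_injective_linearMap (M := P.X i) ι.hom Subtype.val_injective)
        epi_g := (ModuleCat.epi_iff_surjective _).2 (LinearMap.lTensor_surjective (P.X i) hπ) }
    have := hfg q
    have hF : Module.Finite A (S.X₂.homology q) := finite_T_pi P q (ULift.{u} (Fin m))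
    have hK : Module.Finite A (S.X₁.homology (q - 1)) := ih (q - 1) (by omega) K inferInstance
    have hex3 := (ShortComplex.ShortExact.moduleCat_exact_iff_function_exact _).1
      (hS.homology_exact₃ q (q - 1) (by simp))
    let δ : S.X₃.homology q →ₗ[A] S.X₁.homology (q - 1) := (hS.δ q (q - 1) (by simp)).hom
    refine Module.Finite.of_fg ?_ |>.equiv (LinearEquiv.ofTop (⊤ : Submodule A (S.X₃.homology q)) rfl)
    refine Submodule.fg_of_fg_map_of_fg_inf_ker δ (IsNoetherian.noetherian _) ?_
    rw [top_inf_eq, hex3.linearMap_ker_eq]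
    exact Module.Finite.iff_fg.1 (Module.Finite.range _)

omit [∀ i, Module.Flat A (P.X i)] in
lemma finite_of_ker_le {X Y Z : Type u} [AddCommGroup X] [Module A X] [AddCommGroup Y] [Module A Y]
    [AddCommGroup Z] [Module A Z] [Module.Finite A Y] {cl : X →ₗ[A] Y} {g : X →ₗ[A] Z}
    (hcl : Function.Surjective cl) (hg : Function.Surjective g)
    (hle : LinearMap.ker cl ≤ LinearMap.ker g) : Module.Finite A Z := by
  have := Module.Finite.equiv (cl.quotKerEquivOfSurjective hcl).symm
  exact Module.Finite.of_surjective ((LinearMap.ker cl).liftQ g hle) fun z =>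
    (hg z).elim fun x hx => ⟨Submodule.Quotient.mk x, hx⟩

/-- `ker (Q_p ⊗ M → P_{p-1} ⊗ M)` is a quotient of `T_p M`. -/
lemma finite_ker_rTensor (p : ℤ) (M : ModuleCat.{u} A) [Module.Finite A (CohIII.T P p M)] :
    Module.Finite A (LinearMap.ker ((dBarC P p).rTensor M)) := by
  let cl := clsT P (j := p) (k := p - 1) (chain_next p) M
  have hcl : Function.Surjective cl := clsT_surjective P _ M
  let g : LinearMap.ker ((P.d p (p - 1)).hom.rTensor M) →ₗ[A] LinearMap.ker ((dBarC P p).rTensor M) :=
    (((cokerπ P (p + 1) p).rTensor M).comp (LinearMap.ker _).subtype).codRestrict _ fun x => by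
      rw [LinearMap.mem_ker, LinearMap.comp_apply, ← LinearMap.rTensor_comp_apply, dBar_comp]
      exact x.2
  have hg : Function.Surjective g := by
    rintro ⟨z, hz⟩
    obtain ⟨x, rfl⟩ := LinearMap.rTensor_surjective M (Submodule.mkQ_surjective _) z
    refine ⟨⟨x, ?_⟩, rfl⟩
    rw [LinearMap.mem_ker, ← LinearMap.rTensor_comp_apply, dBar_comp] at hz
    exact hz
  have hle : LinearMap.ker cl ≤ LinearMap.ker g := fun x hx => Subtype.ext
    ((rTensor_cokerπ_eq_zero_iff P M _ _ x.1).2 ((clsT_eq_zero_iff P _ M (chain_prev p) x).1 hx))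
  have : Module.Finite A ((CohIII.TFun P p).obj M) := ‹_›
  exact finite_of_ker_le (Y := (CohIII.TFun P p).obj M) (Z := LinearMap.ker ((dBarC P p).rTensor M))
    (cl := cl) (g := g) hcl hg hle

/-- Finite homology of the base change to a quotient ring. -/
lemma finite_homology_bc_quotient [IsNoetherianRing A] (i₀ : ℤ) (hb : ∀ i < i₀, IsZero (P.X i))
    (hfg : ∀ n : ℤ, Module.Finite A (CohIII.T P n (ModuleCat.of A A))) (B : Type u) [CommRing B]
    [Algebra A B] [Module.Finite A B] (p : ℤ) :
    Module.Finite B ((CohIII.bcCx (algebraMap A B) P).homology p) := by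
  have := finite_T_of_finite P i₀ hb hfg p (ModuleCat.of A B) (inferInstanceAs (Module.Finite A B))
  have h1 := finite_ker_rTensor P p (ModuleCat.of A B)
  have h2 : Module.Finite A (LinearMap.ker ((dBarC P p).lTensor B)) := by
    have := h1
    let e := (TensorProduct.comm A (Chain.Q P p) B)
    have he : (LinearMap.ker ((dBarC P p).rTensor B)).map e.toLinearMap =
        LinearMap.ker ((dBarC P p).lTensor B) := by
      rw [LinearMap.lTensor, LinearMap.rTensor]
      ext z
      rw [Submodule.mem_map_equiv, LinearMap.mem_ker, LinearMap.mem_ker,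
        ← (TensorProduct.comm A (P.X (p - 1)) B).map_eq_zero_iff]
      have : ∀ z, (TensorProduct.comm A (P.X (p - 1)) B)
          (TensorProduct.map (dBarC P p) LinearMap.id (e.symm z)) =
            TensorProduct.map LinearMap.id (dBarC P p) z := fun z => by
        induction z using TensorProduct.induction_on with
        | zero => simp
        | add a b ha hb => simp only [map_add, ha, hb]
        | tmul b q => simp [e]
      exact iff_of_eq (congrArg (· = 0) (this z))
    exact Module.Finite.equiv ((e.submoduleMap _).trans (LinearEquiv.ofEq _ _ he))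
  have h3 : Module.Finite B (LinearMap.ker ((dBarC P p).baseChange B)) := by
    have : Module.Finite A (LinearMap.ker ((dBarC P p).baseChange B)) := h2
    exact Module.Finite.of_restrictScalars_finite A B _
  exact Module.Finite.equiv (homologyBCEquiv B P (chain_prev p) (chain_next p)).symm

end Finite

section Rank

variable {A : Type u} [CommRing A] (P : ChainComplex (ModuleCat.{u} A) ℤ) [∀ i, Module.Flat A (P.X i)]

/-- If `Q_{p-1}` is flat, `dRank p` is the fibre dimension of `H_p`. -/
lemma dRank_eq_fdim_of_flat (p : ℤ) [Module.Flat A (Chain.Q P (p - 1))] (x : PrimeSpectrum A) :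
    CohIII.dRank P p x = fdim (LinearMap.ker (dBarC P p)) x := by
  have : Module.Flat A (P.X (p - 1) ⧸ LinearMap.range (dBarC P p)) :=
    Module.Flat.of_linearEquiv (cokerDBarEquiv P p)
  rw [dRank_eq_finrank_ker]
  exact (kerBaseChangeEquiv x.asIdeal.ResidueField (dBarC P p)).finrank_eq.symm

lemma isLocallyConstant_dRank_of_flat (p : ℤ) [Module.Flat A (Chain.Q P (p - 1))]
    [Module.Flat A (LinearMap.ker (dBarC P p))]
    [Module.FinitePresentation A (LinearMap.ker (dBarC P p))] :
    IsLocallyConstant (CohIII.dRank P p) := by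
  rw [show CohIII.dRank P p = fdim (LinearMap.ker (dBarC P p)) from funext (dRank_eq_fdim_of_flat P p)]
  exact isLocallyConstant_fdim _

/-- Reduced local ring: equal rank at the minimal primes and the closed point gives flatness. -/
lemma flat_Q_of_dRank_eq [IsLocalRing A] [IsReduced A] (i₀ p : ℤ) (hb : ∀ i < i₀, IsZero (P.X i))
    [∀ q, Module.Finite A (LinearMap.ker (dBarC P q))]
    (h : ∀ x : PrimeSpectrum A, x.asIdeal ∈ minimalPrimes A →
      ∀ q ≤ p, CohIII.dRank P q x = CohIII.dRank P q (IsLocalRing.closedPoint A)) :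
    ∀ q ≤ p, Module.Flat A (Chain.Q P q) := by
  suffices ∀ n : ℕ, ∀ q, q < i₀ + n → q ≤ p → Module.Flat A (Chain.Q P q) from
    fun q hq => this (q + 1 - i₀).toNat q (by omega) hq
  intro n
  induction n with
  | zero => exact fun q hq _ => flat_Q_of_isZero P q (hb q (by omega))
  | succ n ih =>
    intro q hq hqp
    by_cases hq' : q < i₀ + n
    · exact ih q hq' hqp
    · have := ih (q - 1) (by omega) (by omega)
      have : Module.Flat A (LinearMap.ker (dBarC P q)) := by
        refine flat_of_fdim_eq _ fun x hx z hz => ?_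
        obtain rfl : x = IsLocalRing.closedPoint A := PrimeSpectrum.ext (IsLocalRing.eq_maximalIdeal hx)
        obtain ⟨m, hm, hmz⟩ := Ideal.exists_minimalPrimes_le (I := (⊥ : Ideal A)) (J := z.asIdeal) bot_le
        let m' : PrimeSpectrum A := ⟨m, hm.1.1⟩
        have h0 := h m' hm q hqp
        rw [dRank_eq_fdim_of_flat, dRank_eq_fdim_of_flat] at h0
        have := fdim_le_of_le (LinearMap.ker (dBarC P q)) (show m' ≤ z from hmz)
        have := fdim_le_of_le (LinearMap.ker (dBarC P q)) hz
        omega
      exact flat_Q_of_flat_ker P q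

end Rank

section GenericFlat

variable {A : Type u} [CommRing A]

/-- Over a reduced ring, the free locus of a finitely presented module is dense. -/
lemma minimalPrime_mem_freeLocus [IsReduced A] (M : Type u) [AddCommGroup M] [Module A M]
    (x : PrimeSpectrum A) (hx : x.asIdeal ∈ minimalPrimes A) : x ∈ Module.freeLocus A M := by
  have := hx.1.1
  have : Ring.KrullDimLE 0 (Localization.AtPrime x.asIdeal) := .of_isLocalization _ hx _
  let : Field (Localization.AtPrime x.asIdeal) := Ring.KrullDimLE.isField_of_isReduced.toField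
  rw [Module.mem_freeLocus_iff_tensor x (Localization.AtPrime x.asIdeal)]
  infer_instance

lemma dense_of_minimalPrimes_subset {U : Set (PrimeSpectrum A)}
    (h : ∀ x : PrimeSpectrum A, x.asIdeal ∈ minimalPrimes A → x ∈ U) : Dense U := by
  intro z
  obtain ⟨m, hm, hmz⟩ := Ideal.exists_minimalPrimes_le (I := (⊥ : Ideal A)) (J := z.asIdeal) bot_le
  exact ((PrimeSpectrum.le_iff_specializes ⟨m, hm.1.1⟩ z).1 hmz).mem_closed isClosed_closure
    (subset_closure (h _ hm))

lemma flat_tensor_away {M : Type u} [AddCommGroup M] [Module A M] [Module.FinitePresentation A M]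
    {f : A} (hf : (PrimeSpectrum.basicOpen f : Set (PrimeSpectrum A)) ⊆ Module.freeLocus A M) :
    Module.Flat (Localization.Away f) (Localization.Away f ⊗[A] M) := by
  have := Module.basicOpen_subset_freeLocus_iff.1 hf
  have : Module.Flat (Localization.Away f) (LocalizedModule.Away f M) := inferInstance
  exact Module.Flat.of_linearEquiv (LocalizedModule.equivTensorProduct (Submonoid.powers f) M).symm

/-- The locus where `H_q`, `q ≤ p`, are free. -/
def freeUpTo (P : ChainComplex (ModuleCat.{u} A) ℤ) (i₀ p : ℤ) : Set (PrimeSpectrum A) :=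
  ⋂ q ∈ Finset.Icc i₀ p, Module.freeLocus A (LinearMap.ker (dBarC P q))

lemma isOpen_freeUpTo (P : ChainComplex (ModuleCat.{u} A) ℤ) (i₀ p : ℤ)
    [∀ q, Module.FinitePresentation A (LinearMap.ker (dBarC P q))] : IsOpen (freeUpTo P i₀ p) :=
  isOpen_biInter_finset fun _ _ => Module.isOpen_freeLocus

/-- On a basic open inside the free locus, all `Q_q`, `q ≤ p`, are flat. -/
lemma flat_Q_away (P : ChainComplex (ModuleCat.{u} A) ℤ) [∀ i, Module.Flat A (P.X i)] (i₀ p : ℤ)
    (hb : ∀ i < i₀, IsZero (P.X i)) [∀ q, Module.FinitePresentation A (LinearMap.ker (dBarC P q))]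
    {f : A} (hf : (PrimeSpectrum.basicOpen f : Set (PrimeSpectrum A)) ⊆ freeUpTo P i₀ p) :
    (∀ q ≤ p, Module.Flat (Localization.Away f)
        (LinearMap.ker (dBarC (CohIII.bcCx (algebraMap A (Localization.Away f)) P) q))) ∧
      ∀ q ≤ p, Module.Flat (Localization.Away f)
        (Chain.Q (CohIII.bcCx (algebraMap A (Localization.Away f)) P) q) := by
  let B := Localization.Away f
  have : Module.Flat A B := IsLocalization.flat B (Submonoid.powers f)
  have hb' : ∀ i < i₀, IsZero ((CohIII.bcCx (algebraMap A B) P).X i) :=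
    fun i hi => (ModuleCat.extendScalars (algebraMap A B)).map_isZero (hb i hi)
  have hk : ∀ q ≤ p, Module.Flat B (LinearMap.ker (dBarC (CohIII.bcCx (algebraMap A B) P) q)) := by
    intro q hq
    have : Module.Flat B (B ⊗[A] LinearMap.ker (dBarC P q)) := by
      by_cases hqi : i₀ ≤ q
      · exact flat_tensor_away (hf.trans (Set.biInter_subset_of_mem (Finset.mem_Icc.2 ⟨hqi, hq⟩)))
      · have := ModuleCat.subsingleton_of_isZero (hb q (by omega))
        infer_instance
    exact flat_ker_bc_of_flat B P q
  exact ⟨hk, flat_Q_upTo _ i₀ p hb' hk⟩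

end GenericFlat

end Groth.FlatCxBase
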